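import Cfsg.Agent.PSLTwoRecog.Degrees
import Cfsg.Agent.S0493
import Cfsg.Agent.S0494

/-!
Transport of degree multiplicities between two groups, and the perfect group of order `60`.
-/

set_option autoImplicit false
set_option linter.style.haveILetI false
set_option linter.unusedSectionVars false

namespace CfsgLib.PSLTwoRecog

open CfsgLib.Char

variable {G H : Type*} [Group G] [Finite G] [Group H] [Finite H]

theorem finite_irrCharacter : Finite (Cfsg.IrrCharacter G) :=
  Finite.of_equiv {χ // χ ∈ irrFinset G} (Equiv.subtypeEquivRight fun _ => mem_irrFinset)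

/-- Equal multiplicities give a bijection of irreducible characters preserving degrees. -/
theorem exists_degree_equiv
    (h : ∀ d : ℕ, Nat.card {χ : Cfsg.IrrCharacter G // (χ : G → ℂ) 1 = (d : ℂ)} =
      Nat.card {χ : Cfsg.IrrCharacter H // (χ : H → ℂ) 1 = (d : ℂ)}) :
    ∃ e : Cfsg.IrrCharacter G ≃ Cfsg.IrrCharacter H, ∀ χ, (e χ).1 1 = χ.1 1 := by
  haveI := finite_irrCharacter (G := G)
  haveI := finite_irrCharacter (G := H)
  have hG : ∀ χ : Cfsg.IrrCharacter G, ∀ d : ℕ, cdeg χ.1 = d ↔ χ.1 1 = (d : ℂ) := by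
    intro χ d; rw [irr_apply_one_eq_cdeg χ.2, Nat.cast_inj]
  have hH : ∀ χ : Cfsg.IrrCharacter H, ∀ d : ℕ, cdeg χ.1 = d ↔ χ.1 1 = (d : ℂ) := by
    intro χ d; rw [irr_apply_one_eq_cdeg χ.2, Nat.cast_inj]
  let e : ∀ d : ℕ, {χ : Cfsg.IrrCharacter G // cdeg χ.1 = d} ≃ {χ : Cfsg.IrrCharacter H // cdeg χ.1 = d} :=
    fun d => ((Equiv.subtypeEquivRight fun χ => hG χ d).trans (Finite.card_eq.1 (h d)).some).trans
      (Equiv.subtypeEquivRight fun χ => (hH χ d).symm)
  refine ⟨Equiv.ofFiberEquiv e, fun χ => ?_⟩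
  have := Equiv.ofFiberEquiv_map e χ
  rw [irr_apply_one_eq_cdeg χ.2, irr_apply_one_eq_cdeg (Equiv.ofFiberEquiv e χ).2]
  exact_mod_cast this

theorem card_eq_of_degree_equiv (e : Cfsg.IrrCharacter G ≃ Cfsg.IrrCharacter H)
    (he : ∀ χ, (e χ).1 1 = χ.1 1) : Nat.card G = Nat.card H := by
  haveI := finite_irrCharacter (G := G)
  haveI := finite_irrCharacter (G := H)
  letI := Fintype.ofFinite (Cfsg.IrrCharacter G)
  letI := Fintype.ofFinite (Cfsg.IrrCharacter H)
  have hG := sum_degree_sq (G := G)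
  have hH := sum_degree_sq (G := H)
  rw [Finset.sum_subtype (irrFinset G) (fun _ => mem_irrFinset) (fun χ => χ 1 ^ 2)] at hG
  rw [Finset.sum_subtype (irrFinset H) (fun _ => mem_irrFinset) (fun χ => χ 1 ^ 2)] at hH
  have : (Nat.card G : ℂ) = Nat.card H := by
    rw [← hG, ← hH]
    exact Fintype.sum_equiv e _ _ fun χ => by rw [he]
  exact_mod_cast this

theorem commutator_eq_top_of_linear (hlin : ∀ χ : G → ℂ, Cfsg.IsIrrCharacter G χ → χ 1 = 1 → χ = fun _ => 1) :
    commutator G = ⊤ := by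
  classical
  refine Subgroup.index_eq_one.1 (le_antisymm ?_ (Nat.one_le_iff_ne_zero.2 Subgroup.index_ne_zero_of_finite))
  rw [← card_filter_cdeg_one, Finset.card_le_one]
  intro a ha b hb
  simp only [Finset.mem_filter, mem_irrFinset] at ha hb
  rw [hlin a ha.1 (by rw [irr_apply_one_eq_cdeg ha.1, ha.2, Nat.cast_one]),
    hlin b hb.1 (by rw [irr_apply_one_eq_cdeg hb.1, hb.2, Nat.cast_one])]

theorem iso_alternating_five (hc : Nat.card G = 60) (hp : commutator G = ⊤) :
    Nonempty (G ≃* alternatingGroup (Fin 5)) := by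
  haveI : Nontrivial G := Finite.one_lt_card_iff_nontrivial.1 (by omega)
  obtain ⟨N, ⟨hN, hNtop⟩, hmax⟩ := Set.Finite.exists_maximal
    (s := {N : Subgroup G | N.Normal ∧ N ≠ ⊤}) (Set.toFinite _) ⟨⊥, inferInstance, bot_ne_top⟩
  haveI := hN
  haveI : Nontrivial (G ⧸ N) := QuotientGroup.nontrivial_iff.2 hNtop
  haveI : IsSimpleGroup (G ⧸ N) := ⟨fun M hM => by
    have hle : N ≤ M.comap (QuotientGroup.mk' N) := fun x hx => by
      rw [Subgroup.mem_comap, QuotientGroup.mk'_apply, (QuotientGroup.eq_one_iff x).2 hx]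
      exact one_mem M
    rcases eq_or_ne (M.comap (QuotientGroup.mk' N)) ⊤ with ht | ht
    · exact Or.inr (Subgroup.comap_injective (QuotientGroup.mk'_surjective N) (by rw [ht, Subgroup.comap_top]))
    · refine Or.inl (Subgroup.comap_injective (QuotientGroup.mk'_surjective N) ?_)
      rw [MonoidHom.comap_bot, QuotientGroup.ker_mk']
      exact le_antisymm (hmax ⟨hM.comap _, ht⟩ hle) hle⟩
  have hnc : ¬ IsCyclic (G ⧸ N) := by
    intro hcy
    apply hNtop
    rw [eq_top_iff, ← hp, commutator_def, Subgroup.commutator_le]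
    intro a _ b _
    rw [← QuotientGroup.eq_one_iff, ← QuotientGroup.mk'_apply, map_commutatorElement,
      commutatorElement_eq_one_iff_commute]
    exact IsCyclic.isMulCommutative.is_comm.comm _ _
  have hle : Nat.card (G ⧸ N) ≤ 100 := by
    have := Nat.le_of_dvd Nat.card_pos (Subgroup.card_quotient_dvd_card N)
    omega
  have h60 := Cfsg.Agent.S0493.result hnc hle
  have hbot : N = ⊥ := by
    apply Subgroup.card_eq_one.1
    have := Subgroup.card_eq_card_quotient_mul_card_subgroup N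
    rw [hc, h60] at this
    omega
  obtain ⟨f⟩ := Cfsg.Agent.S0494.result h60
  exact ⟨((QuotientGroup.quotientBot (G := G)).symm.trans (QuotientGroup.quotientMulEquivOfEq hbot.symm)).trans f⟩

end CfsgLib.PSLTwoRecog
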