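import Cfsg.Agent.PSLTwoRecog.Odd
import Cfsg.Agent.S0731
import Cfsg.Agent.Classical.PSLTwo

/-!
The odd case: the coset space of the normaliser of a Sylow `p`-subgroup is a Zassenhaus group.
-/

set_option autoImplicit false
set_option linter.style.haveILetI false
set_option linter.unusedSectionVars false
set_option linter.deprecated false

namespace CfsgLib.PSLTwoRecog

open Subgroup

variable {G : Type*} [Group G] [Finite G]

/-- A group of order `(q + 1) q (q - 1) / 2` in which a Sylow `p`-subgroup of order `q` is the centraliser of each of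
its non-identity elements and has `q + 1` conjugates, and which has no normal subgroup of exponent two and
order `q + 1`, is `PSL(2, q)`. -/
theorem exists_psl_of_frame {p q f : ℕ} [Fact p.Prime] (P : Sylow p G) (hqf : q = p ^ f) (hqo : Odd q)
    (hq5 : 5 ≤ q) (hq : Nat.card (P : Subgroup G) = q)
    (hC : ∀ x ∈ (P : Subgroup G), x ≠ 1 → centralizer ({x} : Set G) = (P : Subgroup G))
    (hidx : (normalizer ((P : Subgroup G) : Set G)).index = q + 1)
    (hNc : 2 * Nat.card (normalizer ((P : Subgroup G) : Set G)) = q * (q - 1))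
    (hno : ∀ M : Subgroup G, M.Normal → Nat.card M = q + 1 → (∀ x : M, x ^ 2 = 1) → False) :
    ∃ (K : Type) (_ : Field K) (_ : Fintype K), Fintype.card K = q ∧
      Nonempty (G ≃* Matrix.ProjectiveSpecialLinearGroup (Fin 2) K) := by
  classical
  set Q : Subgroup G := (P : Subgroup G) with hQdef
  have hq1 : 1 < q := by omega
  have hCQ := hC
  set N := normalizer (Q : Set G) with hNdef
  have hQN : Q ≤ N := le_normalizer
  have hQnN : (Q.subgroupOf N).Normal := inferInstance
  have hpowQ : ∀ x ∈ N, x ^ q = 1 → x ∈ Q := by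
    intro x hx hxq
    have hxp : IsPGroup p (zpowers x) := by
      obtain ⟨n, -, hn⟩ := (Nat.dvd_prime_pow (Fact.out (p := p.Prime))).1
        (hqf ▸ Nat.card_zpowers x ▸ orderOf_dvd_of_pow_eq_one hxq)
      exact IsPGroup.of_card hn
    have hsup : IsPGroup p (zpowers x ⊔ Q : Subgroup G) :=
      hxp.to_sup_of_normal_right' P.2 (zpowers_le.2 hx)
    exact (P.is_maximal' hsup le_sup_right).le (mem_sup_left (mem_zpowers _))
  -- `Q` acts semiregularly on the other cosets
  have hsemi : ∀ u ∈ Q, u ≠ 1 → ∀ g : G, g⁻¹ * u * g ∈ N → g ∈ N := by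
    intro u hu hu1 g hg
    have hgQ : g⁻¹ * u * g ∈ Q := by
      refine hpowQ _ hg ?_
      have := conj_pow (i := q) (a := g⁻¹) (b := u)
      rw [inv_inv] at this
      rw [this, orderOf_dvd_iff_pow_eq_one.1 (hq ▸ Subgroup.orderOf_dvd_natCard Q hu)]
      group
    have hne : g⁻¹ * u * g ≠ 1 := by
      intro h; apply hu1
      calc u = g * (g⁻¹ * u * g) * g⁻¹ := by group
        _ = 1 := by rw [h]; group
    refine mem_normalizer_iff.2 fun y => ?_
    have e1 := hCQ u hu hu1
    have e2 := hCQ _ hgQ hne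
    have k1 : y ∈ Q ↔ y * (g⁻¹ * u * g) = g⁻¹ * u * g * y := by
      conv_lhs => rw [← e2]
      rw [mem_centralizer_singleton_iff]
    have k2 : g * y * g⁻¹ ∈ Q ↔ g * y * g⁻¹ * u = u * (g * y * g⁻¹) := by
      conv_lhs => rw [← e1]
      rw [mem_centralizer_singleton_iff]
    rw [k1, k2]
    constructor <;> intro h
    · calc g * y * g⁻¹ * u = g * (y * (g⁻¹ * u * g)) * g⁻¹ := by group
        _ = g * (g⁻¹ * u * g * y) * g⁻¹ := by rw [h]
        _ = u * (g * y * g⁻¹) := by group
    · calc y * (g⁻¹ * u * g) = g⁻¹ * (g * y * g⁻¹ * u) * g := by group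
        _ = g⁻¹ * (u * (g * y * g⁻¹)) * g := by rw [h]
        _ = g⁻¹ * u * g * y := by group
  -- the cosets
  haveI : Finite (G ⧸ N) := inferInstance
  haveI := Fintype.ofFinite (G ⧸ N)
  let o : G ⧸ N := ((1 : G) : G ⧸ N)
  have hstab : MulAction.stabilizer G o = N := MulAction.stabilizer_quotient N
  have hmov : ∀ u ∈ Q, ∀ y : G ⧸ N, y ≠ o → u • y = y → u = 1 := by
    intro u hu y
    induction y using QuotientGroup.induction_on with
    | H g =>
      intro hy h
      by_contra hu1
      apply hy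
      have h' : ((u * g : G) : G ⧸ N) = (g : G ⧸ N) := h
      rw [QuotientGroup.eq] at h'
      have h'' : g⁻¹ * u * g ∈ N := by
        have := N.inv_mem h'
        rwa [show ((u * g)⁻¹ * g)⁻¹ = g⁻¹ * u * g by group] at this
      have hgN := hsemi u hu hu1 g h''
      show ((g : G) : G ⧸ N) = ((1 : G) : G ⧸ N)
      rw [QuotientGroup.eq]
      simpa using hgN
  have hQo : ∀ u ∈ Q, u • o = o := fun u hu => by
    rw [← MulAction.mem_stabilizer_iff, hstab]; exact hQN hu
  have hreg : ∀ y z : G ⧸ N, y ≠ o → z ≠ o → ∃! u : Q, (u : G) • y = z := by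
    intro y z hy hz
    have himg : ∀ u : Q, (u : G) • y ≠ o := fun u h => hy (by
      have := congrArg (fun w => (u : G)⁻¹ • w) h
      simp only [inv_smul_smul] at this
      rw [this, hQo _ (Q.inv_mem u.2)])
    let f : Q → {w : G ⧸ N // w ≠ o} := fun u => ⟨(u : G) • y, himg u⟩
    have hinj : Function.Injective f := by
      intro u v h
      have h' : (u : G) • y = (v : G) • y := congrArg Subtype.val h
      have := hmov ((v : G)⁻¹ * u) (Q.mul_mem (Q.inv_mem v.2) u.2) y hy
        (by rw [mul_smul, h', inv_smul_smul])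
      exact Subtype.ext (inv_mul_eq_one.1 this).symm
    have hc : Nat.card {w : G ⧸ N // w ≠ o} = q := by
      rw [Nat.card_eq_fintype_card, Fintype.card_subtype_compl, Fintype.card_subtype_eq,
        ← Nat.card_eq_fintype_card, ← index_eq_card, hidx]
      omega
    haveI := Fintype.ofFinite ↥Q
    have hbij : Function.Bijective f :=
      (Fintype.bijective_iff_injective_and_card f).2 ⟨hinj, by
        rw [← Nat.card_eq_fintype_card, ← Nat.card_eq_fintype_card, hc, hq]⟩
    obtain ⟨u, hu⟩ := hbij.2 ⟨z, hz⟩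
    exact ⟨u, congrArg Subtype.val hu, fun v hv => hinj (Subtype.ext
      (hv.trans (congrArg Subtype.val hu).symm))⟩
  have hnt : ∃ y : G ⧸ N, y ≠ o := by
    by_contra h
    push Not at h
    haveI : Subsingleton (G ⧸ N) := ⟨fun a b => (h a).trans (h b).symm⟩
    have := N.index_eq_card
    rw [hidx, Nat.card_unique] at this
    omega
  obtain ⟨y₀, hy₀⟩ := hnt
  -- two-transitivity
  have h2 : MulAction.IsMultiplyPretransitive G (G ⧸ N) 2 := by
    refine MulAction.is_two_pretransitive_iff.2 ?_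
    intro a b c e hab hce
    obtain ⟨g₁, h₁⟩ := MulAction.exists_smul_eq G a o
    obtain ⟨g₂, h₂⟩ := MulAction.exists_smul_eq G c o
    have hb : g₁ • b ≠ o := fun h => hab (smul_left_cancel g₁ (h₁.trans h.symm))
    have he : g₂ • e ≠ o := fun h => hce (smul_left_cancel g₂ (h₂.trans h.symm))
    obtain ⟨u, hu, -⟩ := hreg _ _ hb he
    refine ⟨g₂⁻¹ * (u * g₁), ?_, ?_⟩
    · rw [mul_smul, mul_smul, h₁, hQo _ u.2, ← h₂, inv_smul_smul]
    · rw [mul_smul, mul_smul, hu, inv_smul_smul]
  -- three fixed points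
  have h3 : ∀ g : G, ∀ a b c : G ⧸ N, a ≠ b → b ≠ c → a ≠ c → g • a = a → g • b = b → g • c = c →
      g = 1 := by
    intro g a b c hab hbc hac ha hb hc
    obtain ⟨g₁, h₁⟩ := MulAction.exists_smul_eq G a o
    set h := g₁ * g * g₁⁻¹ with hh
    have fix : ∀ w : G ⧸ N, g • w = w → h • (g₁ • w) = g₁ • w := fun w hw => by
      rw [hh, smul_smul, inv_mul_cancel_right, mul_smul, hw]
    have ho : h • o = o := h₁ ▸ fix a ha
    have hhN : h ∈ N := by rw [← hstab]; exact ho
    have hb' : g₁ • b ≠ o := fun h' => hab (smul_left_cancel g₁ (h₁.trans h'.symm))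
    have hc' : g₁ • c ≠ o := fun h' => hac (smul_left_cancel g₁ (h₁.trans h'.symm))
    obtain ⟨u, hu, huu⟩ := hreg _ _ hb' hc'
    have hu' : h * u * h⁻¹ ∈ Q := (mem_normalizer_iff.1 hhN _).1 u.2
    have heq : (⟨h * u * h⁻¹, hu'⟩ : Q) = u := by
      refine huu _ ?_
      show (h * (u : G) * h⁻¹) • (g₁ • b) = g₁ • c
      have hbi : h⁻¹ • (g₁ • b) = g₁ • b := inv_smul_eq_iff.2 (fix b hb).symm
      rw [mul_smul, mul_smul, hbi, hu, fix c hc]
    have hcomm : h * u = u * h := by
      have := congrArg Subtype.val heq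
      calc h * (u : G) = (h * u * h⁻¹) * h := by group
        _ = u * h := by rw [show h * (u : G) * h⁻¹ = u from this]
    have hu1 : (u : G) ≠ 1 := by
      intro hu1
      rw [hu1, one_smul] at hu
      exact hbc (smul_left_cancel g₁ hu)
    have hhQ : h ∈ Q := by
      rw [← hCQ _ u.2 hu1, mem_centralizer_singleton_iff]; exact hcomm
    have h1 := hmov h hhQ _ hb' (fix b hb)
    rw [hh] at h1
    calc g = g₁⁻¹ * (g₁ * g * g₁⁻¹) * g₁ := by group
      _ = 1 := by rw [h1]; group

  have hfaith : FaithfulSMul G (G ⧸ N) := ⟨fun {g₁ g₂} hg => by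
    obtain ⟨w⟩ := Function.Embedding.nonempty_of_card_le (α := Fin 3) (β := G ⧸ N)
      (by rw [Fintype.card_fin, ← Nat.card_eq_fintype_card, ← index_eq_card, hidx]; omega)
    have hfix : ∀ z : G ⧸ N, (g₂⁻¹ * g₁) • z = z := fun z => by rw [mul_smul, hg z, inv_smul_smul]
    have := h3 (g₂⁻¹ * g₁) (w 0) (w 1) (w 2) (w.injective.ne (by decide)) (w.injective.ne (by decide))
      (w.injective.ne (by decide)) (hfix _) (hfix _) (hfix _)
    exact (inv_mul_eq_one.1 this).symm⟩
  -- an element fixing two points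
  have htwo : ∃ g : G, g ≠ 1 ∧ ∃ a b : G ⧸ N, a ≠ b ∧ g • a = a ∧ g • b = b := by
    obtain ⟨m, hm⟩ : q ∣ Nat.card N := hq ▸ card_dvd_of_le hQN
    have hm' : 2 * m + 1 = q := by
      rw [hm, show 2 * (q * m) = q * (2 * m) by ring] at hNc
      have := Nat.eq_of_mul_eq_mul_left (by omega) hNc
      omega
    have hr : m.minFac.Prime := Nat.minFac_prime (by omega)
    haveI : Fact m.minFac.Prime := ⟨hr⟩
    have hrN : m.minFac ∣ Nat.card N := (Nat.minFac_dvd m).trans (hm ▸ dvd_mul_left m q)
    obtain ⟨δ, hδ⟩ := exists_prime_orderOf_dvd_card' m.minFac hrN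
    have hrq : ¬ m.minFac ∣ q := fun hd => hr.not_dvd_one
      ((Nat.dvd_add_right ((Nat.minFac_dvd m).mul_left 2)).1 (hm'.symm ▸ hd))
    have hδo : (δ : G) • o = o := by rw [← MulAction.mem_stabilizer_iff, hstab]; exact δ.2
    refine ⟨δ, fun e => ?_, ?_⟩
    · rw [← Subgroup.orderOf_coe, e, orderOf_one] at hδ; exact hr.one_lt.ne hδ
    · by_contra hne
      push Not at hne
      have hp' : IsPGroup m.minFac (zpowers (δ : G)) :=
        IsPGroup.of_card (n := 1) (by rw [Nat.card_zpowers, Subgroup.orderOf_coe, hδ, pow_one])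
      have hmod := hp'.card_modEq_card_fixedPoints (G ⧸ N)
      have hfp : MulAction.fixedPoints (zpowers (δ : G)) (G ⧸ N) = {o} := by
        ext z
        simp only [MulAction.mem_fixedPoints, Set.mem_singleton_iff]
        constructor
        · intro hz
          by_contra hzo
          exact hne o z (Ne.symm hzo) hδo (hz ⟨(δ : G), mem_zpowers _⟩)
        · rintro rfl ⟨v, hv⟩
          obtain ⟨i, rfl⟩ := mem_zpowers_iff.1 hv
          show ((δ : G) ^ i) • o = o
          rw [← MulAction.mem_stabilizer_iff, hstab]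
          exact N.zpow_mem δ.2 i
      rw [hfp, ← index_eq_card, hidx, Nat.card_unique] at hmod
      exact hrq ((Nat.modEq_iff_dvd' (by omega)).1 hmod.symm)
  -- no regular normal subgroup
  have hnoreg : ∀ M : Subgroup G, M.Normal → MulAction.IsPretransitive M (G ⧸ N) →
      ∃ a : G ⧸ N, MulAction.stabilizer M a ≠ ⊥ := by
    intro M hM hMt
    by_contra hall
    push Not at hall
    have hMN : ∀ x ∈ M, x ∈ N → x = 1 := by
      intro x hxM hxN
      have h1 : (⟨x, hxM⟩ : M) ∈ MulAction.stabilizer M o := by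
        rw [MulAction.mem_stabilizer_iff]
        show x • o = o
        rw [← MulAction.mem_stabilizer_iff, hstab]; exact hxN
      rw [hall o, mem_bot] at h1
      exact congrArg Subtype.val h1
    have hcM : Nat.card M = q + 1 := by
      haveI := hMt
      have h1 := MulAction.index_stabilizer_of_transitive M o
      rwa [hall o, index_bot, ← index_eq_card, hidx] at h1
    haveI : Fact (Nat.Prime 2) := ⟨Nat.prime_two⟩
    obtain ⟨m0, hm0⟩ := exists_prime_orderOf_dvd_card' (G := M) 2 (by
      rw [hcM]; obtain ⟨r, hr⟩ := hqo; omega)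
    have hm01 : (m0 : G) ≠ 1 := fun e => by
      rw [← Subgroup.orderOf_coe, e, orderOf_one] at hm0; omega
    let φ : Q → {x : M // x ≠ 1} := fun u => ⟨⟨(u : G) * m0 * (u : G)⁻¹, hM.conj_mem _ m0.2 _⟩,
      fun e => hm01 (conj_eq_one_iff.1 (congrArg Subtype.val e))⟩
    have hinj : Function.Injective φ := by
      intro u v e
      have e' : (u : G) * m0 * (u : G)⁻¹ = (v : G) * m0 * (v : G)⁻¹ :=
        congrArg (fun z : {x : M // x ≠ 1} => ((z.1 : M) : G)) e
      by_contra huv
      have hw1 : (v : G)⁻¹ * u ≠ 1 := fun e => huv (Subtype.ext (inv_mul_eq_one.1 e).symm)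
      have hmem : (m0 : G) ∈ Q := by
        rw [← hCQ _ (Q.mul_mem (Q.inv_mem v.2) u.2) hw1, mem_centralizer_singleton_iff]
        calc (m0 : G) * ((v : G)⁻¹ * u) = (v : G)⁻¹ * ((v : G) * m0 * (v : G)⁻¹) * u := by group
          _ = (v : G)⁻¹ * ((u : G) * m0 * (u : G)⁻¹) * u := by rw [e']
          _ = (v : G)⁻¹ * u * m0 := by group
      exact hm01 (hMN _ m0.2 (hQN hmem))
    have hcard : Nat.card {x : M // x ≠ 1} = q := by
      haveI := Fintype.ofFinite M
      rw [Nat.card_eq_fintype_card, Fintype.card_subtype_compl, Fintype.card_subtype_eq,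
        ← Nat.card_eq_fintype_card, hcM]
      omega
    haveI := Fintype.ofFinite Q
    haveI := Fintype.ofFinite {x : M // x ≠ 1}
    have hbij : Function.Bijective φ := (Fintype.bijective_iff_injective_and_card φ).2
      ⟨hinj, by rw [← Nat.card_eq_fintype_card, ← Nat.card_eq_fintype_card, hcard, hq]⟩
    have hsq : ∀ x : M, x ^ 2 = 1 := by
      intro x
      by_cases hx : x = 1
      · rw [hx, one_pow]
      · obtain ⟨u, hu⟩ := hbij.2 ⟨x, hx⟩
        have hu' : (u : G) * m0 * (u : G)⁻¹ = x :=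
          congrArg (fun z : {x : M // x ≠ 1} => ((z.1 : M) : G)) hu
        apply Subtype.ext
        push_cast
        rw [← hu', conj_pow, ← Subgroup.coe_pow, ← hm0, pow_orderOf_eq_one]
        simp
    exact hno M hM hcM hsq
  have hZ : Cfsg.IsZassenhausGroup G (G ⧸ N) := ⟨hfaith, h2, h3, htwo, hnoreg⟩
  have hQab : IsMulCommutative Q := ⟨⟨fun a b => by
    by_cases hb : (b : G) = 1
    · apply Subtype.ext; simp [hb]
    · apply Subtype.ext
      exact mem_centralizer_singleton_iff.1 ((hCQ _ b.2 hb).symm ▸ a.2)⟩⟩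
  have hcG : 2 * Nat.card G = (q + 1) * (q * (q - 1)) := by
    rw [← N.index_mul_card, hidx, ← hNc]; ring
  rcases Cfsg.Agent.S0731.result hZ o Q (by rw [hstab]; exact hQN)
      (by rw [hstab]; exact hQnN) hQab hreg with ⟨h3t, hsharp⟩ | ⟨K, i1, i2, hchar, ⟨φ⟩⟩
  · exfalso
    obtain ⟨emb⟩ : Nonempty (Fin 3 ↪ G ⧸ N) := by
      apply Function.Embedding.nonempty_of_card_le
      rw [Fintype.card_fin, ← Nat.card_eq_fintype_card, ← index_eq_card, hidx]
      omega
    haveI := h3t
    have hi := MulAction.index_stabilizer_of_transitive G emb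
    rw [hsharp emb, index_bot, Nat.card_eq_fintype_card (α := Fin 3 ↪ G ⧸ N),
      Fintype.card_embedding_eq, Fintype.card_fin, ← Nat.card_eq_fintype_card (α := G ⧸ N),
      ← index_eq_card, hidx] at hi
    simp only [Nat.descFactorial_succ, Nat.descFactorial_zero, mul_one, Nat.sub_zero,
      Nat.add_sub_cancel] at hi
    rw [show q + 1 - 2 = q - 1 by omega] at hi
    have : (q - 1) * (q * (q + 1)) = (q + 1) * (q * (q - 1)) := by ring
    have : 0 < Nat.card G := Nat.card_pos
    omega
  · refine ⟨K, i1, i2, ?_, ⟨φ⟩⟩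
    haveI : Finite K := Finite.of_fintype K
    have hodd : Odd (Nat.card K) := by
      rw [Nat.card_eq_fintype_card, Nat.odd_iff]
      exact FiniteField.odd_card_of_char_ne_two hchar
    have h1 := CfsgLib.Linear.PSLTwo.mul_card (F := K)
    rw [CfsgLib.Linear.PSLTwo.gcd_eq_two hodd, ← Nat.card_congr φ.toEquiv, hcG] at h1
    rw [Nat.card_eq_fintype_card] at h1
    have hc1 : 1 < Fintype.card K := Fintype.one_lt_card
    generalize Fintype.card K = c at h1 hc1 ⊢
    rcases lt_trichotomy c q with hlt | heq | hgt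
    · exfalso
      have : c * (c ^ 2 - 1) < q * (q ^ 2 - 1) := by
        apply Nat.mul_lt_mul_of_lt_of_le hlt ?_ ?_
        · exact Nat.sub_le_sub_right (Nat.pow_le_pow_left hlt.le 2) 1
        · have : 2 ^ 2 ≤ q ^ 2 := Nat.pow_le_pow_left hq1 2
          omega
      rw [CfsgLib.Linear.PSLTwo.sq_sub_one q] at this
      have h' : (q + 1) * (q * (q - 1)) = q * ((q - 1) * (q + 1)) := by ring
      omega
    · exact heq
    · exfalso
      have : q * (q ^ 2 - 1) < c * (c ^ 2 - 1) := by
        apply Nat.mul_lt_mul_of_lt_of_le hgt ?_ ?_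
        · exact Nat.sub_le_sub_right (Nat.pow_le_pow_left hgt.le 2) 1
        · have : 2 ^ 2 ≤ c ^ 2 := Nat.pow_le_pow_left hc1 2
          omega
      rw [CfsgLib.Linear.PSLTwo.sq_sub_one q] at this
      have h' : (q + 1) * (q * (q - 1)) = q * ((q - 1) * (q + 1)) := by ring
      omega


theorem Hyp.exists_psl {p q f E O : ℕ} (h : Hyp G p q f E O) :
    ∃ (K : Type) (_ : Field K) (_ : Fintype K), Fintype.card K = q ∧
      Nonempty (G ≃* Matrix.ProjectiveSpecialLinearGroup (Fin 2) K) := by
  haveI : Fact p.Prime := ⟨h.hp⟩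
  obtain ⟨P⟩ : Nonempty (Sylow p G) := inferInstance
  obtain ⟨hC, hidx, hNc⟩ := h.sylow_data P
  have hq1 : 1 < q := h.hq ▸ Nat.one_lt_pow (by have := h.hf; omega) h.hp.one_lt
  refine exists_psl_of_frame P h.hq (h.hq ▸ (h.hp.eq_two_or_odd'.resolve_left h.hp2).pow)
    (by have := h.hEO; have := h.hO; omega) (h.card_sylow P) hC hidx hNc ?_
  intro M hM hcM hsq
  classical
  haveI : Fact (Nat.Prime 2) := ⟨Nat.prime_two⟩
  obtain ⟨k, hk⟩ := IsPGroup.iff_card.1 (show IsPGroup 2 M from fun x => ⟨1, by rw [pow_one]; exact hsq x⟩)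
  rw [hcM] at hk
  rcases h.hEO with ⟨e1, e2⟩ | ⟨e1, e2⟩
  · have hk2 : 2 ≤ k := by
      by_contra hk2
      interval_cases k <;> omega
    obtain ⟨k', rfl⟩ := Nat.exists_eq_add_of_le hk2
    rw [pow_add] at hk
    obtain ⟨r, hr⟩ := h.evenE
    omega
  · obtain ⟨a, ha⟩ := h.exE
    have hMidx : M.index = q * O := by
      have h1 := M.index_mul_card
      rw [hcM, h.card] at h1
      apply Nat.eq_of_mul_eq_mul_right (show 0 < q + 1 by omega)
      rw [h1, ← e1]; ring
    haveI := hM
    have hcop : E.Coprime M.index := by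
      rw [hMidx]
      exact (h.cop_q_two_E.coprime_dvd_right (dvd_mul_left E 2)).symm.mul_right h.cop_E_O
    have h1 : a ^ M.index ∈ M := M.pow_index_mem a
    have h2 : (a ^ M.index) ^ 2 = 1 := by
      simpa using congrArg Subtype.val (hsq ⟨_, h1⟩)
    rw [← pow_mul] at h2
    have h3 : E ∣ 2 := hcop.dvd_of_dvd_mul_left (ha ▸ orderOf_dvd_of_pow_eq_one h2)
    have := Nat.le_of_dvd two_pos h3
    have := h.hO
    omega

end CfsgLib.PSLTwoRecog
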