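import Cfsg.Agent.SL2C.Cases
import Cfsg.Agent.GLn.SteinbergSL
import Cfsg.Agent.Char.Inflation
import Cfsg.Agent.Char.DegreeSums
import Cfsg.Agent.Classical.PSLTwo
import Cfsg.Agent.Blocks.DefectZeroVanish

/-!
The degrees of the irreducible characters of `PSL(2, q)`, and the consequence that a group with the same degrees,
`q = p ^ f ≡ 1 (mod 4)`, has no element of order `p * r` for primes `r ≠ p`.
-/

set_option autoImplicit false
set_option linter.style.haveILetI false
set_option linter.unusedSectionVars false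

namespace CfsgLib.PSLTwoRecog

open CfsgLib.SL2C CfsgLib.Char
open scoped ComplexConjugate

section PSL

variable {F : Type*} [Field F] [Fintype F]

local notation "PSLF" => Matrix.ProjectiveSpecialLinearGroup (Fin 2) F

/-- The inflation of a character of `PSL(2, F)`. -/
theorem inflate_psl (χ : Cfsg.IrrCharacter PSLF) :
    Cfsg.IsIrrCharacter (SL F) (inflate (Subgroup.center (SL F)) χ.1) ∧
      inflate (Subgroup.center (SL F)) χ.1 1 = χ.1 1 :=
  ⟨IsIrrCharacter.inflate _ χ.2, rfl⟩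

theorem psl_linear (h4 : 4 ≤ Fintype.card F) (χ : Cfsg.IrrCharacter PSLF) (hd : χ.1 1 = 1) :
    χ.1 = fun _ => 1 := by
  obtain ⟨c, hc⟩ := exists_ell (F := F)
  obtain ⟨hi, h1⟩ := inflate_psl χ
  have hq : (4 : ℝ) ≤ Fintype.card F := by exact_mod_cast h4
  rcases degree_cases hc hi with ⟨h, -⟩ | ⟨-, h⟩ | ⟨-, h⟩ | ⟨-, h⟩ | ⟨-, h⟩ | ⟨-, h⟩
  · exact inflate_injective _ h
  all_goals
    exfalso
    rw [h1, hd] at h
    have h' := congrArg Complex.re h
    simp at h' <;> first | linarith | omega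

theorem psl_steinberg_unique (χ ψ : Cfsg.IrrCharacter PSLF) (h1 : χ.1 1 = (Fintype.card F : ℂ))
    (h2 : ψ.1 1 = (Fintype.card F : ℂ)) : χ = ψ := by
  obtain ⟨c, hc⟩ := exists_ell (F := F)
  apply Subtype.ext
  apply inflate_injective (Subgroup.center (SL F))
  exact (eq_St_of_degree hc (inflate_psl χ).1 ((inflate_psl χ).2.trans h1)).trans
    (eq_St_of_degree hc (inflate_psl ψ).1 ((inflate_psl ψ).2.trans h2)).symm

theorem psl_steinberg_exists (p : ℕ) [Fact p.Prime] [CharP F p] :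
    ∃ χ : Cfsg.IrrCharacter PSLF, χ.1 1 = (Fintype.card F : ℂ) := by
  haveI : Finite F := Finite.of_fintype F
  obtain ⟨χ, hχ, hP⟩ := CfsgLib.GLn.exists_steinberg_PSL (n := 2) (F := F) p
  obtain ⟨P⟩ : Nonempty (Sylow p PSLF) := inferInstance
  refine ⟨⟨χ, hχ⟩, ?_⟩
  show χ 1 = _
  rw [(hP P).1, Nat.cast_inj, Sylow.card_eq_multiplicity]
  obtain ⟨f, hp, hf⟩ := FiniteField.card F p
  have hq : Nat.card F = p ^ (f : ℕ) := by rw [Nat.card_eq_fintype_card, hf]
  have h1 := CfsgLib.Linear.PSLTwo.mul_card (F := F)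
  have hq1 : 1 < Nat.card F := Finite.one_lt_card
  have hpq : p ∣ Nat.card F := hq ▸ dvd_pow_self p f.pos.ne'
  have hcop : ∀ d, d ∣ Nat.card F - 1 ∨ d ∣ Nat.card F + 1 → ¬ p ∣ d := by
    intro d hd hpd
    apply hp.not_dvd_one
    rcases hd with hd | hd
    · have := Nat.dvd_sub hpq (hpd.trans hd)
      rwa [show Nat.card F - (Nat.card F - 1) = 1 by omega] at this
    · exact (Nat.dvd_add_right hpq).1 (hpd.trans hd)
  have h2 := congrArg (fun n => n.factorization p) h1
  rw [CfsgLib.Linear.PSLTwo.sq_sub_one,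
    Nat.factorization_mul (Nat.gcd_pos_of_pos_left _ two_pos).ne' Nat.card_pos.ne',
    Nat.factorization_mul (by omega) (Nat.mul_ne_zero (by omega) (by omega)),
    Nat.factorization_mul (by omega) (by omega), Finsupp.add_apply, Finsupp.add_apply, Finsupp.add_apply,
    Nat.factorization_eq_zero_of_not_dvd (hcop _ (Or.inl (Nat.gcd_dvd_right _ _))),
    Nat.factorization_eq_zero_of_not_dvd (hcop _ (Or.inl dvd_rfl)),
    Nat.factorization_eq_zero_of_not_dvd (hcop _ (Or.inr dvd_rfl)), add_zero, add_zero, zero_add] at h2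
  rw [h2, ← Nat.card_eq_fintype_card, hq, Nat.Prime.factorization_pow hp, Finsupp.single_eq_same]

theorem psl_degree (h5 : 5 ≤ Fintype.card F) (h4 : Fintype.card F % 4 = 1) (χ : Cfsg.IrrCharacter PSLF) :
    χ.1 1 = 1 ∨ χ.1 1 = (Fintype.card F : ℂ) ∨ χ.1 1 = ((Fintype.card F + 1 : ℕ) : ℂ) ∨
      χ.1 1 = ((Fintype.card F - 1 : ℕ) : ℂ) ∨ χ.1 1 = (((Fintype.card F + 1) / 2 : ℕ) : ℂ) := by
  obtain ⟨c, hc⟩ := exists_ell (F := F)
  obtain ⟨hi, h1⟩ := inflate_psl χ
  have ho : Odd (Fintype.card F) := Nat.odd_iff.2 (by omega)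
  rcases degree_cases hc hi with ⟨-, h⟩ | ⟨-, h⟩ | ⟨-, h⟩ | ⟨-, h⟩ | ⟨-, h⟩ | ⟨h', h⟩
  · exact Or.inl (h1 ▸ h)
  · exact Or.inr (Or.inl (h1 ▸ h))
  · exact Or.inr (Or.inr (Or.inl (by rw [← h1, h]; push_cast; ring)))
  · exact Or.inr (Or.inr (Or.inr (Or.inl (by rw [← h1, h, Nat.cast_sub (by omega), Nat.cast_one]))))
  · exact Or.inr (Or.inr (Or.inr (Or.inr (by rw [← h1, h, natCast_half_add ho]))))
  · exfalso
    obtain ⟨-, η, θ, x₁, x₂, y₁, y₂, H, hy⟩ := h'
    set z : SL F := bor (-1 : Fˣ) 0 with hz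
    have hsgn : (-1 : Fˣ) ∈ sgn F := mem_sgn.2 (by simp)
    have hzc : z ∈ Subgroup.center (SL F) := bor_mem_center_iff.2 ⟨mem_sgn.1 hsgn, rfl⟩
    have hpar : (Fintype.card F - 1) / 2 % 2 = 0 := by omega
    have hσ : ch η (-1 : Fˣ) = 1 := by
      rw [H.σ_eq]
      obtain ⟨r, hr⟩ := Nat.dvd_of_mod_eq_zero hpar
      rw [hr, pow_mul, neg_one_sq, one_pow]
    have hP : Pi' θ z = -((Fintype.card F : ℂ) - 1) := by
      rw [hz, (Pi'_vals hc θ).cen _ hsgn, H.opp, hσ, mul_neg_one]
    rw [H.Pi'_eq, Pi.add_apply] at hP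
    have hfix : inflate (Subgroup.center (SL F)) χ.1 z = ((Fintype.card F : ℂ) - 1) / 2 := by
      rw [inflate_apply_mem _ _ hzc, h]
    have hbound : ∀ y : SL F → ℂ, Cfsg.IsIrrCharacter (SL F) y → y 1 = ((Fintype.card F : ℂ) - 1) / 2 →
        -(((Fintype.card F : ℝ) - 1) / 2) ≤ (y z).re := by
      intro y hy h1
      have h2 := IsCharacter.norm_apply_le (IsIrrCharacter.isCharacter hy) z
      rw [h1] at h2
      have h3 : (((Fintype.card F : ℂ) - 1) / 2).re = ((Fintype.card F : ℝ) - 1) / 2 := by simp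
      rw [h3] at h2
      have := abs_le.1 ((Complex.abs_re_le_norm (y z)).trans h2)
      linarith
    have hq : (5 : ℝ) ≤ Fintype.card F := by exact_mod_cast h5
    have hre := congrArg Complex.re hP
    simp only [Complex.add_re, Complex.neg_re, Complex.sub_re, Complex.natCast_re, Complex.one_re] at hre
    rcases hy with e | e <;> rw [e] at hfix <;> have hf := congrArg Complex.re hfix <;>
      simp at hf
    · have := hbound y₂ H.y₂_irr H.y₂_one
      linarith
    · have := hbound y₁ H.y₁_irr H.y₁_one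
      linarith

end PSL

section Group

variable {G : Type*} [Group G] [Finite G]

/-- A commuting pair of elements of orders `p` and `r`: the column of their product. -/
theorem no_mixed {p q f : ℕ} (hp : p.Prime) (hqf : q = p ^ f) (h5 : 5 ≤ q) (h4 : q % 4 = 1)
    (hcard : 2 * Nat.card G = q * ((q - 1) * (q + 1)))
    (hlin : ∀ χ : G → ℂ, Cfsg.IsIrrCharacter G χ → χ 1 = 1 → χ = fun _ => 1)
    (hdeg : ∀ χ : G → ℂ, Cfsg.IsIrrCharacter G χ → χ 1 = 1 ∨ χ 1 = (q : ℂ) ∨ χ 1 = ((q + 1 : ℕ) : ℂ) ∨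
      χ 1 = ((q - 1 : ℕ) : ℂ) ∨ χ 1 = (((q + 1) / 2 : ℕ) : ℂ))
    {x s : G} {r : ℕ} (hx : orderOf x = p) (hr : r.Prime) (hrp : r ≠ p) (hs : orderOf s = r)
    (hc : x * s = s * x) : False := by
  classical
  haveI := Fintype.ofFinite G
  set A := (q + 1) / 2 with hA
  set B := (q - 1) / 2 with hB
  have hqA : q + 1 = 2 * A := by omega
  have hqB : q - 1 = 2 * B := by omega
  have hcard' : Nat.card G = 2 * q * A * B := by
    apply Nat.eq_of_mul_eq_mul_left two_pos
    rw [hcard, hqA, hqB]; ring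
  have hord : orderOf (x * s) = p * r := by
    rw [Commute.orderOf_mul_eq_mul_orderOf_of_coprime (hc : Commute x s)
      (by rw [hx, hs]; exact (Nat.coprime_primes hp hr).2 (Ne.symm hrp)), hx, hs]
  have hne : x * s ≠ 1 := by
    intro e
    rw [e, orderOf_one] at hord
    exact hp.one_lt.ne' (Nat.eq_one_of_mul_eq_one_right hord.symm)
  have hA0 : 0 < A := by omega
  have hB0 : 0 < B := by omega
  have hf0 : f ≠ 0 := by intro e; rw [e, pow_zero] at hqf; omega
  have hpq : p ∣ q := hqf ▸ dvd_pow_self p hf0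
  have hp2 : p ≠ 2 := by rintro rfl; omega
  have hnA : ¬ p ∣ 2 * A := fun h => hp.not_dvd_one ((Nat.dvd_add_right hpq).1 (hqA ▸ h))
  have hnB : ¬ p ∣ 2 * B := fun h => hp.not_dvd_one (by
    have := Nat.dvd_sub hpq (hqB ▸ h : p ∣ q - 1)
    rwa [show q - (q - 1) = 1 by omega] at this)
  -- defect zero
  have hvan : ∀ (t : ℕ), t.Prime → t ∣ p * r → ∀ (χ : G → ℂ) (hχ : Cfsg.IsIrrCharacter G χ) (d : ℕ),
      χ 1 = d → t ^ (Nat.card G).factorization t ∣ d → χ (x * s) = 0 := by
    intro t ht htd χ hχ d hd hdvd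
    refine CfsgLib.Block.eq_zero_of_defectZero ht ⟨χ, hχ⟩ ?_ (hord ▸ htd)
    rwa [show Cfsg.charDegree χ = d by rw [Cfsg.charDegree, hd, Complex.natCast_re, Nat.floor_natCast]]
  have hSt : ∀ χ : G → ℂ, Cfsg.IsIrrCharacter G χ → χ 1 = (q : ℂ) → χ (x * s) = 0 := by
    intro χ hχ hd
    refine hvan p hp (dvd_mul_right _ _) χ hχ q hd ?_
    refine ((Nat.Prime.pow_dvd_iff_le_factorization hp (by omega)).2 ?_)
    rw [hcard', show 2 * q * A * B = q * (2 * A * B) by ring, Nat.factorization_mul (by omega)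
      (Nat.mul_ne_zero (by omega) (by omega)), Finsupp.add_apply]
    rw [Nat.factorization_eq_zero_of_not_dvd (n := 2 * A * B) (fun h => by
      rcases hp.dvd_mul.1 h with h' | h'
      · exact hnA h'
      · exact hnB (h'.mul_left 2)), add_zero]
  have horth := sum_irr_mul_conj (G := G) (x * s) 1
  rw [if_neg (fun h => hne (isConj_one_left.1 h))] at horth
  -- all degrees but two are multiples of a common `k > 1`
  suffices key : ∃ k, 1 < k ∧ ∀ χ : G → ℂ, Cfsg.IsIrrCharacter G χ → χ ≠ (fun _ => 1) →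
      χ (x * s) = 0 ∨ ∃ e : ℕ, χ 1 = ((k * e : ℕ) : ℂ) by
    obtain ⟨k, hk, hkey⟩ := key
    let S : ℂ := ∑ χ ∈ (irrFinset G).erase (fun _ => 1), χ (x * s) * conj (χ 1) / (k : ℂ)
    have hint : IsIntegral ℤ S := by
      refine IsIntegral.sum _ fun χ hχ => ?_
      obtain ⟨hne', hχ'⟩ := Finset.mem_erase.1 hχ
      have hχi := mem_irrFinset.1 hχ'
      rcases hkey χ hχi hne' with h0 | ⟨e, he⟩
      · rw [h0, zero_mul, zero_div]; exact isIntegral_zero
      · rw [he, Complex.conj_natCast, Nat.cast_mul]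
        rw [show χ (x * s) * ((k : ℂ) * e) / k = χ (x * s) * e by
          have : (k : ℂ) ≠ 0 := Nat.cast_ne_zero.2 (by omega)
          field_simp]
        exact (IsCharacter.isIntegral (IsIrrCharacter.isCharacter hχi) _).mul (isIntegral_natCast e)
    have h1m : (fun _ => (1 : ℂ)) ∈ irrFinset G := mem_irrFinset.2 isIrrCharacter_one
    rw [← Finset.add_sum_erase _ _ h1m] at horth
    have hsum : S = (-1 : ℂ) / k := by
      simp only [S, ← Finset.sum_div]
      congr 1
      simp only [map_one, mul_one] at horth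
      linear_combination horth
    rw [hsum] at hint
    have := dvd_of_isIntegral_div (a := 1) (b := k) (by omega) (by
      have h := hint.neg
      rwa [neg_div, neg_neg, ← Nat.cast_one] at h)
    have := Nat.le_of_dvd one_pos this
    omega
  have hrG : r ∣ 2 * q * A * B := hcard' ▸ hs ▸ orderOf_dvd_natCard s
  have hrq : ¬ r ∣ q := fun h => hrp ((Nat.prime_dvd_prime_iff_eq hr hp).1 (hr.dvd_of_dvd_pow (hqf ▸ h)))
  by_cases hrA : r ∣ A
  · -- characters of degree `2 A` and `A` vanish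
    refine ⟨2 * B, by omega, fun χ hχ hne' => ?_⟩
    have hfull : r ^ (Nat.card G).factorization r ∣ A := by
      refine (Nat.Prime.pow_dvd_iff_le_factorization hr hA0.ne').2 ?_
      have h2 : r ≠ 2 := by
        rintro rfl
        obtain ⟨i, hi⟩ := hrA
        omega
      rw [hcard', show 2 * q * A * B = A * (2 * q * B) by ring, Nat.factorization_mul hA0.ne'
        (Nat.mul_ne_zero (by omega) hB0.ne'), Finsupp.add_apply,
        Nat.factorization_eq_zero_of_not_dvd (n := 2 * q * B), add_zero]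
      intro h
      rcases hr.dvd_mul.1 h with h' | h'
      · rcases hr.dvd_mul.1 h' with h'' | h''
        · exact h2 ((Nat.prime_dvd_prime_iff_eq hr Nat.prime_two).1 h'')
        · exact hrq h''
      · have : r ∣ A - B := Nat.dvd_sub hrA h'
        rw [show A - B = 1 by omega] at this
        exact hr.not_dvd_one this
    rcases hdeg χ hχ with h | h | h | h | h
    · exact absurd (hlin χ hχ h) hne'
    · exact Or.inl (hSt χ hχ h)
    · exact Or.inl (hvan r hr (dvd_mul_left _ _) χ hχ _ h (hqA ▸ hfull.mul_left 2))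
    · exact Or.inr ⟨1, by rw [h, hqB, mul_one]⟩
    · exact Or.inl (hvan r hr (dvd_mul_left _ _) χ hχ _ h hfull)
  · -- characters of degree `2 B` vanish
    refine ⟨A, by omega, fun χ hχ hne' => ?_⟩
    have hfull : r ^ (Nat.card G).factorization r ∣ 2 * B := by
      refine (Nat.Prime.pow_dvd_iff_le_factorization hr (by omega)).2 ?_
      rw [hcard', show 2 * q * A * B = 2 * B * (q * A) by ring, Nat.factorization_mul (by omega)
        (Nat.mul_ne_zero (by omega) hA0.ne'), Finsupp.add_apply,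
        Nat.factorization_eq_zero_of_not_dvd (n := q * A) (fun h => (hr.dvd_mul.1 h).elim hrq hrA), add_zero]
    rcases hdeg χ hχ with h | h | h | h | h
    · exact absurd (hlin χ hχ h) hne'
    · exact Or.inl (hSt χ hχ h)
    · exact Or.inr ⟨2, by rw [h, hqA, mul_comm]⟩
    · exact Or.inl (hvan r hr (dvd_mul_left _ _) χ hχ _ h (hqB ▸ hfull))
    · exact Or.inr ⟨1, by rw [h, mul_one]⟩

end Group

end CfsgLib.PSLTwoRecog
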