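import Cfsg.Agent.PSLTwoRecog.Zass

/-!
Counting the Sylow `p`-subgroups when each is the centraliser of its non-identity elements.
-/

set_option autoImplicit false
set_option linter.style.haveILetI false
set_option linter.unusedSectionVars false

namespace CfsgLib.PSLTwoRecog

open Subgroup

variable {G : Type*} [Group G] [Finite G]

theorem index_of_selfcentralising {p q f : ℕ} [Fact p.Prime] (P : Sylow p G) (hqf : q = p ^ f) (hq3 : 3 ≤ q)
    (hcard : 2 * Nat.card G = q * ((q - 1) * (q + 1))) (hq : Nat.card (P : Subgroup G) = q)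
    (hA : ∀ R : Sylow p G, ∀ x ∈ (R : Subgroup G), x ≠ 1 → centralizer ({x} : Set G) = (R : Subgroup G)) :
    (normalizer ((P : Subgroup G) : Set G)).index = q + 1 ∧
      2 * Nat.card (normalizer ((P : Subgroup G) : Set G)) = q * (q - 1) := by
  classical
  set N := normalizer ((P : Subgroup G) : Set G)
  obtain ⟨m, hm⟩ : q ∣ Nat.card N := hq ▸ card_dvd_of_le le_normalizer
  have hidx : 2 * (N.index * m) = (q - 1) * (q + 1) := by
    have h1 := N.index_mul_card
    rw [hm] at h1
    rw [← h1] at hcard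
    apply Nat.eq_of_mul_eq_mul_left (show 0 < q by omega)
    rw [← hcard]; ring
  have hTI : ∀ R : Sylow p G, R ≠ P → (R : Subgroup G) ⊓ P = ⊥ := by
    intro R hR
    rw [eq_bot_iff_forall]
    rintro x ⟨hxR, hxP⟩
    by_contra hx1
    exact hR (Sylow.ext ((hA R x hxR hx1).symm.trans (hA P x hxP hx1)))
  have hmod : q ∣ N.index - 1 := by
    rw [show N.index = Nat.card (Sylow p G) from (Sylow.card_eq_index_normalizer P).symm]
    let Y := {R : Sylow p G // R ≠ P}
    have hY : Nat.card Y = Nat.card (Sylow p G) - 1 := by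
      haveI := Fintype.ofFinite (Sylow p G)
      rw [Nat.card_eq_fintype_card, Fintype.card_subtype_compl, Fintype.card_subtype_eq,
        Nat.card_eq_fintype_card]
    have hfix : ∀ v : (P : Subgroup G), (v : G) • P = P := fun v =>
      Sylow.smul_eq_iff_mem_normalizer.2 (le_normalizer v.2)
    letI : MulAction (P : Subgroup G) Y :=
    { smul := fun v R => ⟨(v : G) • R.1, fun e => R.2 (smul_left_cancel (v : G) (e.trans (hfix v).symm))⟩
      one_smul := fun R => Subtype.ext (one_smul G R.1)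
      mul_smul := fun v v' R => Subtype.ext (mul_smul (v : G) (v' : G) R.1) }
    rw [← hY]
    refine dvd_card_of_orbits (M := (P : Subgroup G)) fun R => ?_
    suffices MulAction.stabilizer (P : Subgroup G) R = ⊥ by rw [this, index_bot, hq]
    rw [eq_bot_iff_forall]
    intro v hv
    have hvR : (v : G) ∈ normalizer ((R.1 : Subgroup G) : Set G) :=
      Sylow.smul_eq_iff_mem_normalizer.1 (congrArg Subtype.val (MulAction.mem_stabilizer_iff.1 hv))
    have hsup : IsPGroup p (zpowers (v : G) ⊔ (R.1 : Subgroup G) : Subgroup G) :=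
      (P.2.to_le (zpowers_le.2 v.2)).to_sup_of_normal_right' R.1.2 (zpowers_le.2 hvR)
    have hvR' : (v : G) ∈ (R.1 : Subgroup G) :=
      (R.1.is_maximal' hsup le_sup_right).le (mem_sup_left (mem_zpowers _))
    exact Subtype.ext (mem_bot.1 (hTI R.1 R.2 ▸ (⟨hvR', v.2⟩ : (v : G) ∈ (R.1 : Subgroup G) ⊓ P)))
  -- `m ∣ q - 1`
  have hmcop : m.Coprime q := by
    rw [hqf]
    refine Nat.Coprime.pow_right _ ?_
    rw [Nat.coprime_comm, (Fact.out (p := p.Prime)).coprime_iff_not_dvd]
    intro hd
    have h1 : p ∣ (q - 1) * (q + 1) := hidx ▸ (hd.mul_left _).mul_left 2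
    have hf0 : f ≠ 0 := by intro e; rw [e, pow_zero] at hqf; omega
    have hpq : p ∣ q := hqf ▸ dvd_pow_self p hf0
    apply (Fact.out (p := p.Prime)).not_dvd_one
    rcases (Fact.out (p := p.Prime)).dvd_mul.1 h1 with h2 | h2
    · have := Nat.dvd_sub hpq h2
      rwa [show q - (q - 1) = 1 by omega] at this
    · exact (Nat.dvd_add_right hpq).1 h2
  have hmq : m ∣ q - 1 := hq ▸ dvd_card_sub_one (P : Subgroup G) (hm ▸ dvd_mul_left m q)
    fun x hx hx1 => by rw [hA P x hx hx1, hq]; exact hmcop.symm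
  -- `q ∣ 2 m + 1`
  have h2m : q ∣ 2 * m + 1 := by
    have hpos : 1 ≤ N.index := Nat.one_le_iff_ne_zero.2 index_ne_zero_of_finite
    have h1 : (q : ℤ) ∣ (N.index : ℤ) - 1 := by
      have := Int.natCast_dvd_natCast.2 hmod
      rwa [Nat.cast_sub hpos, Nat.cast_one] at this
    have h4 : 2 * ((N.index : ℤ) * m) = ((q : ℤ) - 1) * (q + 1) := by
      have := congrArg (fun n : ℕ => (n : ℤ)) hidx
      push_cast [Nat.cast_sub (show 1 ≤ q by omega)] at this
      exact this
    have h3 : (q : ℤ) ∣ ((2 * m + 1 : ℕ) : ℤ) := by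
      have := dvd_sub (dvd_mul_right (q : ℤ) q) (h1.mul_right (2 * (m : ℤ)))
      rw [sub_mul, show (N.index : ℤ) * (2 * m) = 2 * ((N.index : ℤ) * m) by ring, h4, one_mul,
        show (q : ℤ) * q - (((q : ℤ) - 1) * (q + 1) - 2 * (m : ℤ)) = 2 * m + 1 by ring] at this
      exact_mod_cast this
    exact Int.natCast_dvd_natCast.1 h3
  have hmle : m ≤ q - 1 := Nat.le_of_dvd (by omega) hmq
  have hm2 : 2 * m + 1 = q := by
    obtain ⟨k, hk⟩ := h2m
    rcases Nat.lt_or_ge k 2 with hk' | hk'
    · interval_cases k <;> omega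
    · have : q * 2 ≤ q * k := Nat.mul_le_mul_left _ hk'
      omega
  refine ⟨?_, ?_⟩
  · apply Nat.eq_of_mul_eq_mul_right (show 0 < m by omega)
    apply Nat.eq_of_mul_eq_mul_left two_pos
    rw [hidx, show q - 1 = 2 * m by omega]; ring
  · rw [hm, show q - 1 = 2 * m by omega]; ring

end CfsgLib.PSLTwoRecog
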