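import Cfsg.Agent.PSLTwoRecog.Part

/-!
Groups with the order and the element orders of `PSL(2, q)`, `q` odd: the Sylow `p`-subgroups are abelian and
self-centralising, with `q + 1` conjugates.
-/

set_option autoImplicit false
set_option linter.style.haveILetI false
set_option linter.unusedSectionVars false

namespace CfsgLib.PSLTwoRecog

open Subgroup

variable {G : Type*} [Group G] [Finite G]

/-- The numerical hypotheses: the order and the element orders of `PSL(2, q)`, with `E` the even and `O` the odd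
one of `(q ± 1) / 2`. -/
structure Hyp (G : Type*) [Group G] (p q f E O : ℕ) : Prop where
  hp : p.Prime
  hp2 : p ≠ 2
  hq : q = p ^ f
  hf : 1 ≤ f
  card : Nat.card G = 2 * E * q * O
  split : ∀ g : G, orderOf g ∣ p ∨ orderOf g ∣ E ∨ orderOf g ∣ O
  evenE : Even E
  oddO : Odd O
  hO : 3 ≤ O
  hEO : (2 * E + 1 = q ∧ O = E + 1) ∨ (2 * E = q + 1 ∧ O + 1 = E)
  exE : ∃ a : G, orderOf a = E
  exO : ∃ c : G, orderOf c = O

variable {p q f E O : ℕ}

theorem Hyp.E_pos (h : Hyp G p q f E O) : 0 < E := by have := h.hEO; have := h.hO; omega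

theorem Hyp.p_dvd_q (h : Hyp G p q f E O) : p ∣ q := h.hq ▸ dvd_pow_self p (by have := h.hf; omega)

theorem Hyp.cop_p_two_E (h : Hyp G p q f E O) : p.Coprime (2 * E) := by
  rw [h.hp.coprime_iff_not_dvd]
  intro hd
  apply h.hp.not_dvd_one
  rcases h.hEO with ⟨e, -⟩ | ⟨e, -⟩
  · exact (Nat.dvd_add_right hd).1 (e ▸ h.p_dvd_q)
  · exact (Nat.dvd_add_right h.p_dvd_q).1 (e ▸ hd)

theorem Hyp.cop_p_E (h : Hyp G p q f E O) : p.Coprime E :=
  h.cop_p_two_E.coprime_dvd_right (dvd_mul_left E 2)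

theorem Hyp.cop_p_O (h : Hyp G p q f E O) : p.Coprime O := by
  rw [h.hp.coprime_iff_not_dvd]
  intro hd
  apply h.hp.not_dvd_one
  rcases h.hEO with ⟨e, e'⟩ | ⟨e, e'⟩
  · have h2 : 2 * O = q + 1 := by omega
    exact (Nat.dvd_add_right h.p_dvd_q).1 (h2 ▸ hd.mul_left 2)
  · have h2 : 2 * O + 1 = q := by omega
    exact (Nat.dvd_add_right (hd.mul_left 2)).1 (h2 ▸ h.p_dvd_q)

theorem Hyp.cop_two_E_O (h : Hyp G p q f E O) : (2 * E).Coprime O := by
  refine Nat.Coprime.mul_left ?_ ?_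
  · exact (Nat.coprime_two_left).2 h.oddO
  · rcases h.hEO with ⟨-, e⟩ | ⟨-, e⟩
    · rw [e]; simp
    · rw [← e]; simp

theorem Hyp.cop_E_O (h : Hyp G p q f E O) : E.Coprime O := h.cop_two_E_O.coprime_dvd_left (dvd_mul_left E 2)

theorem Hyp.cop_q_two_E (h : Hyp G p q f E O) : q.Coprime (2 * E) := h.hq ▸ h.cop_p_two_E.pow_left f

theorem Hyp.cop_q_O (h : Hyp G p q f E O) : q.Coprime O := h.hq ▸ h.cop_p_O.pow_left f

/-- Commuting non-identity elements have orders in the same component. -/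
theorem Hyp.comm_dvd (h : Hyp G p q f E O) {x y : G} (hx1 : x ≠ 1) {X : ℕ} (hX : X = p ∨ X = E ∨ X = O)
    (hx : orderOf x ∣ X) (hc : x * y = y * x) : orderOf y ∣ X := by
  by_contra hy
  have hcases : ∀ Y Z : ℕ, (Y = p ∨ Y = E ∨ Y = O) → (Z = p ∨ Z = E ∨ Z = O) → Y ≠ Z → Y.Coprime Z := by
    rintro Y Z (rfl | rfl | rfl) (rfl | rfl | rfl) hne <;>
      first
      | exact absurd rfl hne
      | exact h.cop_p_E
      | exact h.cop_p_E.symm
      | exact h.cop_p_O
      | exact h.cop_p_O.symm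
      | exact h.cop_E_O
      | exact h.cop_E_O.symm
  obtain ⟨Y, hY, hyY⟩ : ∃ Y, (Y = p ∨ Y = E ∨ Y = O) ∧ orderOf y ∣ Y := by
    rcases h.split y with h1 | h1 | h1
    · exact ⟨p, .inl rfl, h1⟩
    · exact ⟨E, .inr (.inl rfl), h1⟩
    · exact ⟨O, .inr (.inr rfl), h1⟩
  have hXY : X.Coprime Y := hcases X Y hX hY (fun e => hy (e ▸ hyY))
  have hord := (Commute.orderOf_mul_eq_mul_orderOf_of_coprime (x := x) (y := y) hc
    (Nat.Coprime.coprime_dvd_left hx (hXY.coprime_dvd_right hyY)))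
  obtain ⟨Z, hZ, hZd⟩ : ∃ Z, (Z = p ∨ Z = E ∨ Z = O) ∧ orderOf (x * y) ∣ Z := by
    rcases h.split (x * y) with h1 | h1 | h1
    · exact ⟨p, .inl rfl, h1⟩
    · exact ⟨E, .inr (.inl rfl), h1⟩
    · exact ⟨O, .inr (.inr rfl), h1⟩
  rw [hord] at hZd
  by_cases hne : X = Z
  · exact hy (hne ▸ (dvd_mul_left _ _).trans hZd)
  · have h1 : orderOf x ∣ Nat.gcd X Z := Nat.dvd_gcd hx ((dvd_mul_right _ _).trans hZd)
    rw [hcases X Z hX hZ hne] at h1
    exact hx1 (orderOf_eq_one_iff.1 (Nat.dvd_one.1 h1))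

theorem coprime_card_of {H : Subgroup G} {X m : ℕ} (hH : ∀ y ∈ H, orderOf y ∣ X) (hc : X.Coprime m) :
    (Nat.card H).Coprime m := by
  refine Nat.coprime_of_dvd fun r hr h1 h2 => ?_
  haveI : Fact r.Prime := ⟨hr⟩
  obtain ⟨y, hy⟩ := exists_prime_orderOf_dvd_card' (G := H) r h1
  have := hH y y.2
  rw [Subgroup.orderOf_coe, hy] at this
  exact hr.not_dvd_one (hc ▸ Nat.dvd_gcd this h2)

theorem Hyp.cent_p (h : Hyp G p q f E O) {x : G} (hx1 : x ≠ 1) (hx : x ^ p = 1) :
    Nat.card (centralizer ({x} : Set G)) ∣ q := by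
  have hH : ∀ y ∈ centralizer ({x} : Set G), orderOf y ∣ p := fun y hy =>
    h.comm_dvd hx1 (.inl rfl) (orderOf_dvd_of_pow_eq_one hx) (mem_centralizer_singleton_iff.1 hy).symm
  have h1 := coprime_card_of hH (h.cop_p_two_E.mul_right h.cop_p_O)
  refine h1.dvd_of_dvd_mul_right ?_
  have := card_subgroup_dvd_card (centralizer ({x} : Set G))
  rw [h.card] at this
  rwa [show q * (2 * E * O) = 2 * E * q * O by ring]

theorem Hyp.cent_O (h : Hyp G p q f E O) {x : G} (hx1 : x ≠ 1) (hx : x ^ O = 1) :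
    Nat.card (centralizer ({x} : Set G)) ∣ O := by
  have hH : ∀ y ∈ centralizer ({x} : Set G), orderOf y ∣ O := fun y hy =>
    h.comm_dvd hx1 (.inr (.inr rfl)) (orderOf_dvd_of_pow_eq_one hx) (mem_centralizer_singleton_iff.1 hy).symm
  have h1 := coprime_card_of hH (Nat.Coprime.mul_right h.cop_two_E_O.symm h.cop_q_O.symm)
  refine h1.dvd_of_dvd_mul_left ?_
  have := card_subgroup_dvd_card (centralizer ({x} : Set G))
  rwa [h.card] at this

theorem Hyp.cent_E (h : Hyp G p q f E O) {x : G} (hx1 : x ≠ 1) (hx : x ^ E = 1) :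
    Nat.card (centralizer ({x} : Set G)) ∣ 2 * E := by
  have hH : ∀ y ∈ centralizer ({x} : Set G), orderOf y ∣ E := fun y hy =>
    h.comm_dvd hx1 (.inr (.inl rfl)) (orderOf_dvd_of_pow_eq_one hx) (mem_centralizer_singleton_iff.1 hy).symm
  have h1 := coprime_card_of hH (h.cop_q_two_E.coprime_dvd_right (dvd_mul_left E 2)).symm
  have h2 := coprime_card_of hH h.cop_E_O
  refine (h1.mul_right h2).dvd_of_dvd_mul_right ?_
  have := card_subgroup_dvd_card (centralizer ({x} : Set G))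
  rw [h.card] at this
  rwa [show 2 * E * (q * O) = 2 * E * q * O by ring]

theorem zpowers_comm (a : G) : IsMulCommutative (zpowers a) :=
  ⟨⟨fun x y => by
    obtain ⟨i, hi⟩ := mem_zpowers_iff.1 x.2
    obtain ⟨j, hj⟩ := mem_zpowers_iff.1 y.2
    apply Subtype.ext
    simp only [Subgroup.coe_mul, ← hi, ← hj, ← zpow_add, add_comm]⟩⟩

theorem hall_of_card {W : Subgroup G} {m : ℕ} (hm : Nat.card G = Nat.card W * m)
    (hc : (Nat.card W).Coprime m) : (Nat.card W).Coprime W.index := by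
  have : W.index = m := by
    have h := W.card_mul_index
    rw [hm] at h
    exact Nat.eq_of_mul_eq_mul_left Nat.card_pos h
  rwa [this]

/-- The cyclic subgroup of order `O` swallows the odd elements normalising it. -/
theorem Hyp.part_O (h : Hyp G p q f E O) :
    ∃ C : Subgroup G, Nat.card C = O ∧ Part C ∧
      ∀ k ∈ normalizer (C : Set G), Odd (orderOf k) → k ∈ C := by
  obtain ⟨c, hc⟩ := h.exO
  set C := zpowers c with hC
  have hcard : Nat.card C = O := by rw [hC, Nat.card_zpowers, hc]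
  haveI := zpowers_comm c
  have hcent : ∀ x ∈ C, x ≠ 1 → centralizer ({x} : Set G) = C := by
    intro x hx hx1
    have hle : C ≤ centralizer ({x} : Set G) := fun y hy =>
      mem_centralizer_singleton_iff.2 (setLike_mul_comm (S := Subgroup G) hy hx)
    refine (eq_of_le_of_card_ge hle ?_).symm
    rw [hcard]
    exact Nat.le_of_dvd (by have := h.hO; omega) (h.cent_O hx1
      (orderOf_dvd_iff_pow_eq_one.1 (hcard ▸ Subgroup.orderOf_dvd_natCard C hx)))
  have hP : Part C := by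
    refine ⟨zpowers_comm c, hall_of_card (m := 2 * E * q) ?_ ?_, fun x hx hx1 => ?_⟩
    · rw [h.card, hcard]; ring
    · rw [hcard]; exact h.cop_two_E_O.symm.mul_right h.cop_q_O.symm
    · rw [hcent x hx hx1]; exact le_normalizer
  refine ⟨C, hcard, hP, ?_⟩
  set N := normalizer (C : Set G)
  obtain ⟨e, he⟩ : O ∣ Nat.card N := hcard ▸ card_dvd_of_le le_normalizer
  have hidx : N.index * e = 2 * E * q := by
    have h1 := N.index_mul_card
    rw [he, h.card] at h1
    apply Nat.eq_of_mul_eq_mul_right (show 0 < O by have := h.hO; omega)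
    rw [← h1]; ring
  have hecop : e.Coprime O :=
    (h.cop_two_E_O.mul_left h.cop_q_O).coprime_dvd_left (hidx ▸ dvd_mul_left e _)
  have hdiv : e ∣ O - 1 := hcard ▸ dvd_card_sub_one C (he ▸ dvd_mul_left e O) fun x hx hx1 => by
    rw [hcent x hx hx1, hcard]; exact hecop.symm
  have he2 : e = 2 := by
    have hmod := hP.index_modEq
    rw [hcard] at hmod
    have h1 : (O : ℤ) ∣ (N.index : ℤ) - 1 := by
      have hpos : 1 ≤ N.index := Nat.one_le_iff_ne_zero.2 index_ne_zero_of_finite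
      have := Int.natCast_dvd_natCast.2 hmod
      rwa [Nat.cast_sub hpos, Nat.cast_one] at this
    have h2 : (O : ℤ) ∣ 2 * E * q - 2 := by
      rcases h.hEO with ⟨a, b⟩ | ⟨a, b⟩
      · refine ⟨4 * E - 2, ?_⟩; rw [← a, b]; push_cast; ring
      · refine ⟨4 * O + 6, ?_⟩
        have : q = 2 * O + 1 := by omega
        rw [this, ← b]; push_cast; ring
    have h3 : (O : ℤ) ∣ 2 - (e : ℤ) := by
      have h4 : ((N.index : ℤ)) * e = 2 * E * q := by exact_mod_cast hidx
      have := dvd_sub (h1.mul_right (e : ℤ)) h2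
      rwa [sub_mul, h4, one_mul, show (2 * (E : ℤ) * q - e) - (2 * E * q - 2) = 2 - e by ring] at this
    have hO := h.hO
    have hele : e ≤ O - 1 := Nat.le_of_dvd (by omega) hdiv
    have he0 : 1 ≤ e := Nat.one_le_iff_ne_zero.2 (by
      intro e0; rw [e0, mul_zero] at he; exact Nat.card_pos.ne' he)
    obtain ⟨k, hk⟩ := h3
    have hk0 : k = 0 := by
      rcases le_or_gt k (-1) with hk' | hk'
      · have : (O : ℤ) * k ≤ -(O : ℤ) := by nlinarith
        omega
      · rcases le_or_gt 1 k with hk'' | hk''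
        · have : (O : ℤ) ≤ (O : ℤ) * k := by nlinarith
          omega
        · omega
    subst hk0
    omega
  intro k hk hko
  refine hP.mem_of_pow hk ?_
  rw [hcard]
  refine orderOf_dvd_iff_pow_eq_one.1 ?_
  have h1 : orderOf k ∣ O * 2 := he2 ▸ he ▸ Subgroup.orderOf_dvd_natCard N hk
  exact (Nat.coprime_two_right.2 hko).dvd_of_dvd_mul_right h1

/-- The odd part of the cyclic subgroup of order `E` swallows the odd elements normalising it. -/
theorem Hyp.part_W (h : Hyp G p q f E O) :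
    ∃ (W : Subgroup G) (e : ℕ), 1 ≤ e ∧ E = 2 ^ e * Nat.card W ∧ Odd (Nat.card W) ∧ Part W ∧
      ∀ k ∈ normalizer (W : Set G), Nat.card W ≠ 1 → Odd (orderOf k) → k ∈ W := by
  obtain ⟨a, ha⟩ := h.exE
  obtain ⟨e, w, hw, hEw⟩ := Nat.exists_eq_two_pow_mul_odd h.E_pos.ne'
  have he1 : 1 ≤ e := by
    rcases Nat.eq_zero_or_pos e with e0 | e0
    · exfalso; subst e0
      have h0 := h.evenE
      rw [hEw, pow_zero, one_mul] at h0
      exact (Nat.not_even_iff_odd.2 hw) h0
    · exact e0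
  set W := zpowers (a ^ 2 ^ e) with hW
  have hcard : Nat.card W = w := by
    rw [hW, Nat.card_zpowers, orderOf_pow_of_dvd (pow_ne_zero _ two_ne_zero) (ha ▸ hEw ▸ dvd_mul_right _ _),
      ha, hEw, Nat.mul_div_cancel_left _ (pow_pos two_pos _)]
  set A := zpowers a with hA
  have hAc : Nat.card A = E := by rw [hA, Nat.card_zpowers, ha]
  have hWA : W ≤ A := zpowers_le.2 (A.pow_mem (mem_zpowers a) _)
  haveI := zpowers_comm a
  have hwE : w ∣ E := hEw ▸ dvd_mul_left _ _
  have hcent : ∀ x ∈ W, x ≠ 1 → centralizer ({x} : Set G) ≤ normalizer (W : Set G) := by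
    intro x hx hx1
    set Cx := centralizer ({x} : Set G) with hCx
    have hle : A ≤ Cx := fun y hy =>
      mem_centralizer_singleton_iff.2 (setLike_mul_comm (S := Subgroup G) hy (hWA hx))
    have hdvd : Nat.card Cx ∣ 2 * E := h.cent_E hx1
      (orderOf_dvd_iff_pow_eq_one.1 ((Subgroup.orderOf_dvd_natCard W hx).trans (hcard ▸ hwE)))
    intro g hg
    refine mem_normalizer_of_conj_mem fun v hv => ?_
    have hconj : g * a * g⁻¹ ∈ A := by
      have h2 : (A.subgroupOf Cx).index ∣ 2 := by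
        have h3 := (A.subgroupOf Cx).index_mul_card
        rw [Nat.card_congr (subgroupOfEquivOfLe hle).toEquiv, hAc] at h3
        rw [← h3] at hdvd
        exact (Nat.mul_dvd_mul_iff_right h.E_pos).1 hdvd
      have hn : (A.subgroupOf Cx).Normal := by
        rcases (Nat.dvd_prime Nat.prime_two).1 h2 with h3 | h3
        · rw [index_eq_one] at h3; rw [h3]; infer_instance
        · exact normal_of_index_eq_two h3
      exact hn.conj_mem ⟨a, hle (mem_zpowers a)⟩ (mem_zpowers a) ⟨g, hg⟩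
    obtain ⟨i, rfl⟩ := mem_zpowers_iff.1 hv
    obtain ⟨k, hk⟩ := mem_zpowers_iff.1 hconj
    rw [← conj_zpow, ← conj_pow, ← hk]
    refine mem_zpowers_iff.2 ⟨k * i, ?_⟩
    rw [← zpow_natCast a, ← zpow_natCast (a ^ k), ← zpow_mul, ← zpow_mul, ← zpow_mul]
    congr 1; ring
  have hqO : (w : ℤ) ∣ (q : ℤ) * O - 1 := by
    have hEz : (w : ℤ) ∣ E := Int.natCast_dvd_natCast.2 hwE
    rcases h.hEO with ⟨e1, e2⟩ | ⟨e1, e2⟩
    · have : (q : ℤ) * O - 1 = (E : ℤ) * (2 * E + 3) := by rw [← e1, e2]; push_cast; ring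
      rw [this]; exact hEz.mul_right _
    · have hq' : q = 2 * O + 1 := by omega
      have : (q : ℤ) * O - 1 = (E : ℤ) * (2 * O - 1) := by rw [hq', ← e2]; push_cast; ring
      rw [this]; exact hEz.mul_right _
  have hcw2 : w.Coprime 2 := Nat.coprime_two_right.2 hw
  have hcwqO : w.Coprime (q * O) :=
    ((h.cop_q_two_E.coprime_dvd_right (hwE.trans (dvd_mul_left E 2))).symm).mul_right
      (h.cop_E_O.coprime_dvd_left hwE)
  have hGw : Nat.card G = w * (2 ^ (e + 1) * (q * O)) := by rw [h.card, hEw]; ring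
  have hP : Part W := by
    refine ⟨zpowers_comm _, hall_of_card (m := 2 ^ (e + 1) * (q * O)) (hcard ▸ hGw) ?_, hcent⟩
    rw [hcard]
    exact (hcw2.pow_right _).mul_right hcwqO
  refine ⟨W, e, he1, hcard ▸ hEw, hcard ▸ hw, hP, ?_⟩
  intro k hk hw1 hko
  rw [hcard] at hw1
  have hw3 : 3 ≤ w := by obtain ⟨r, hr⟩ := hw; omega
  set N := normalizer (W : Set G) with hN
  -- the order of the normaliser
  obtain ⟨m, hm⟩ : E ∣ Nat.card N := by
    rw [← hAc]
    exact card_dvd_of_le (fun y hy => mem_normalizer_of_conj_mem fun v hv => by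
      rwa [setLike_mul_comm (S := Subgroup G) hy (hWA hv), mul_inv_cancel_right])
  have hidx : N.index * m = 2 * (q * O) := by
    have h1 := N.index_mul_card
    rw [hm, h.card] at h1
    apply Nat.eq_of_mul_eq_mul_right h.E_pos
    calc N.index * m * E = N.index * (E * m) := by ring
      _ = 2 * E * q * O := h1
      _ = 2 * (q * O) * E := by ring
  have hm0 : m ≠ 0 := by
    intro e0; rw [e0, mul_zero] at hidx
    have := h.hO
    have : 0 < q * O := Nat.mul_pos (h.hq ▸ pow_pos h.hp.pos _) (by omega)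
    omega
  obtain ⟨j, φ, hφ, hmφ⟩ := Nat.exists_eq_two_pow_mul_odd hm0
  have hφd : φ ∣ q * O :=
    (Nat.coprime_two_right.2 hφ).dvd_of_dvd_mul_left (hidx ▸ (hmφ ▸ dvd_mul_left φ _).mul_left _)
  have hφcop : φ.Coprime (2 * E) :=
    (h.cop_q_two_E.mul_left h.cop_two_E_O.symm).coprime_dvd_left hφd
  have hdiv : φ ∣ w - 1 := hcard ▸ dvd_card_sub_one W (hm ▸ (hmφ ▸ dvd_mul_left φ _).mul_left E)
    fun x hx hx1 => (hφcop.symm).coprime_dvd_left (h.cent_E hx1
      (orderOf_dvd_iff_pow_eq_one.1 ((Subgroup.orderOf_dvd_natCard W hx).trans (hcard ▸ hwE))))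
  have hj : j ≤ 1 := by
    have h1 : 2 ^ j ∣ 2 * (q * O) := hidx ▸ (hmφ ▸ dvd_mul_right _ φ).mul_left _
    have hodd : Nat.Coprime (2 ^ j) (q * O) := by
      refine Nat.Coprime.pow_left _ (Nat.Coprime.mul_right ?_ (Nat.coprime_two_left.2 h.oddO))
      exact (h.cop_q_two_E.coprime_dvd_right (dvd_mul_right 2 E)).symm
    have h2 : 2 ^ j ∣ 2 := hodd.dvd_of_dvd_mul_right h1
    have := Nat.le_of_dvd two_pos h2
    by_contra hj'
    have : 2 ^ 2 ≤ 2 ^ j := Nat.pow_le_pow_right two_pos (by omega)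
    omega
  have hmod := hP.index_modEq
  rw [hcard] at hmod
  have h1 : (w : ℤ) ∣ (N.index : ℤ) - 1 := by
    have hpos : 1 ≤ N.index := Nat.one_le_iff_ne_zero.2 index_ne_zero_of_finite
    have := Int.natCast_dvd_natCast.2 hmod
    rwa [Nat.cast_sub hpos, Nat.cast_one] at this
  have h2 : (w : ℤ) ∣ 2 - (m : ℤ) := by
    have h4 : ((N.index : ℤ)) * m = 2 * ((q : ℤ) * O) := by exact_mod_cast hidx
    have := dvd_sub (h1.mul_right (m : ℤ)) (hqO.mul_left 2)
    rwa [sub_mul, h4, one_mul, show (2 * ((q : ℤ) * O) - m) - 2 * ((q : ℤ) * O - 1) = 2 - m by ring] at this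
  have hm2 : m = 2 := by
    have hφle : φ ≤ w - 1 := Nat.le_of_dvd (by omega) hdiv
    have hφ0 : 1 ≤ φ := by obtain ⟨r, hr⟩ := hφ; omega
    interval_cases j
    · -- `φ ≡ 2`
      rw [pow_zero, one_mul] at hmφ
      subst hmφ
      obtain ⟨i, hi⟩ := h2
      have hi0 : i = 0 := by
        rcases le_or_gt i (-1) with hk' | hk'
        · have : (w : ℤ) * i ≤ -(w : ℤ) := by nlinarith
          omega
        · rcases le_or_gt 1 i with hk'' | hk''
          · have : (w : ℤ) ≤ (w : ℤ) * i := by nlinarith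
            omega
          · omega
      subst hi0
      omega
    · rw [pow_one] at hmφ
      subst hmφ
      have h5 : (w : ℤ) ∣ 1 - (φ : ℤ) := by
        refine Int.dvd_of_dvd_mul_right_of_gcd_one (b := 2) ?_ ?_
        · rw [show (2 : ℤ) * (1 - φ) = 2 - ((2 * φ : ℕ) : ℤ) by push_cast; ring]; exact h2
        · exact hcw2
      have h6 : (w : ℤ) ∣ ((φ - 1 : ℕ) : ℤ) := by
        rw [Nat.cast_sub hφ0, Nat.cast_one, show (φ : ℤ) - 1 = -(1 - φ) by ring]; exact h5.neg_right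
      have h7 := Int.natCast_dvd_natCast.1 h6
      rcases Nat.eq_zero_or_pos (φ - 1) with h8 | h8
      · omega
      · have := Nat.le_of_dvd h8 h7; omega
  refine hP.mem_of_pow hk ?_
  rw [hcard]
  refine orderOf_dvd_iff_pow_eq_one.1 ?_
  have h3 : orderOf k ∣ 2 ^ (e + 1) * w := by
    have := Subgroup.orderOf_dvd_natCard N hk
    rwa [hm, hm2, hEw, show 2 ^ e * w * 2 = 2 ^ (e + 1) * w by ring] at this
  exact ((Nat.coprime_two_right.2 hko).pow_right _).dvd_of_dvd_mul_left h3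

/-- An involution acting without fixed points inverts. -/
theorem inverts {A : Subgroup G} {t : G} (ht : t * t = 1) (hA : ∀ a ∈ A, t * a * t⁻¹ ∈ A)
    (hfpf : ∀ a ∈ A, t * a * t⁻¹ = a → a = 1) :
    (∀ a ∈ A, t * a * t⁻¹ = a⁻¹) ∧ ∀ a ∈ A, ∀ b ∈ A, a * b = b * a := by
  let φ : A →* A := MonoidHom.mk' (fun a => ⟨t * a * t⁻¹, hA a a.2⟩) (fun a b => Subtype.ext (conj_mul).symm)
  have hinv : Function.Involutive φ := fun a => Subtype.ext (by
    show t * (t * (a : G) * t⁻¹) * t⁻¹ = a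
    calc t * (t * (a : G) * t⁻¹) * t⁻¹ = t * t * a * (t * t)⁻¹ := by group
      _ = a := by rw [ht]; group)
  have hf : MonoidHom.FixedPointFree φ := fun a e => Subtype.ext (hfpf a a.2 (congrArg Subtype.val e))
  refine ⟨fun a ha => congrArg Subtype.val (congrFun (hf.coe_eq_inv_of_involutive hinv) ⟨a, ha⟩), fun a ha b hb => ?_⟩
  exact congrArg Subtype.val (hf.commute_all_of_involutive hinv ⟨a, ha⟩ ⟨b, hb⟩).eq

theorem Hyp.pow_p_of_pPow (h : Hyp G p q f E O) {x : G} {n : ℕ} (hx : x ^ p ^ n = 1) : x ^ p = 1 := by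
  refine orderOf_dvd_iff_pow_eq_one.1 ?_
  have h1 := orderOf_dvd_of_pow_eq_one hx
  rcases h.split x with h2 | h2 | h2
  · exact h2
  · have : orderOf x ∣ 1 := (h.cop_p_E.pow_left n) ▸ Nat.dvd_gcd h1 h2
    exact this.trans (one_dvd _)
  · have : orderOf x ∣ 1 := (h.cop_p_O.pow_left n) ▸ Nat.dvd_gcd h1 h2
    exact this.trans (one_dvd _)

theorem Hyp.card_sylow (h : Hyp G p q f E O) [Fact p.Prime] (P : Sylow p G) : Nat.card (P : Subgroup G) = q := by
  rw [Sylow.card_eq_multiplicity, h.hq]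
  congr 1
  have h0 : 2 * E * O ≠ 0 := Nat.mul_ne_zero (by have := h.E_pos; omega) (by have := h.hO; omega)
  rw [h.card, show 2 * E * q * O = (p ^ f) * (2 * E * O) by rw [h.hq]; ring,
    Nat.factorization_mul (pow_ne_zero _ h.hp.pos.ne') h0, Nat.Prime.factorization_pow h.hp]
  simp [Nat.factorization_eq_zero_of_not_dvd
    (h.hp.coprime_iff_not_dvd.1 (h.cop_p_two_E.mul_right h.cop_p_O))]

theorem Hyp.mem_sylow_pow (h : Hyp G p q f E O) [Fact p.Prime] {P : Sylow p G} {x : G}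
    (hx : x ∈ (P : Subgroup G)) : x ^ p = 1 :=
  h.pow_p_of_pPow (n := f) (h.hq ▸ orderOf_dvd_iff_pow_eq_one.1
    (h.card_sylow P ▸ Subgroup.orderOf_dvd_natCard _ hx))

/-- In a subgroup of odd order, the product of two elements of order `p` has order `p`. -/
theorem Hyp.closed (h : Hyp G p q f E O) {H : Subgroup G} (hH : Odd (Nat.card H)) {x y : G}
    (hx : x ∈ H) (hy : y ∈ H) (hxp : x ^ p = 1) (hyp : y ^ p = 1) : (x * y) ^ p = 1 := by
  have hodd : Odd (orderOf (x * y)) :=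
    hH.of_dvd_nat (Subgroup.orderOf_dvd_natCard H (H.mul_mem hx hy))
  rcases h.split (x * y) with h1 | h1 | h1
  · exact orderOf_dvd_iff_pow_eq_one.1 h1
  · obtain ⟨W, e, -, hEW, -, hP, hN⟩ := h.part_W
    by_cases hw1 : Nat.card W = 1
    · rw [hEW, hw1, mul_one] at h1
      have h2 : orderOf (x * y) = 1 :=
        Nat.dvd_one.1 (((Nat.coprime_two_right.2 hodd).pow_right e) ▸ Nat.dvd_gcd dvd_rfl h1)
      rw [orderOf_eq_one_iff.1 h2, one_pow]
    · have h2 : orderOf (x * y) ∣ Nat.card W :=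
        ((Nat.coprime_two_right.2 hodd).pow_right e).dvd_of_dvd_mul_left (hEW ▸ h1)
      obtain ⟨g, hg⟩ := hP.elem_into (orderOf_dvd_iff_pow_eq_one.1 h2)
      have := hP.odd_closed (fun k hk hko => hN k hk hw1 hko) H hH
        (h.cop_p_E.coprime_dvd_right (hEW ▸ dvd_mul_left _ _)) hx hy hxp hyp hg
      rw [this, one_pow]
  · obtain ⟨C, hC, hP, hN⟩ := h.part_O
    obtain ⟨g, hg⟩ := hP.elem_into (x := x * y) (orderOf_dvd_iff_pow_eq_one.1 (hC ▸ h1))
    rw [hP.odd_closed hN H hH (hC ▸ h.cop_p_O) hx hy hxp hyp hg, one_pow]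

theorem Hyp.isPGroup_cent (h : Hyp G p q f E O) {x : G} (hx1 : x ≠ 1) (hx : x ^ p = 1) :
    IsPGroup p (centralizer ({x} : Set G)) := by
  obtain ⟨n, -, hn⟩ := (Nat.dvd_prime_pow h.hp).1 (h.hq ▸ h.cent_p hx1 hx)
  exact IsPGroup.of_card hn

theorem Hyp.fpf (h : Hyp G p q f E O) {t y : G} (ht : orderOf t = 2) (hy : y ^ p = 1)
    (e : t * y * t⁻¹ = y) : y = 1 := by
  by_contra hy1
  have h1 := h.comm_dvd hy1 (.inl rfl) (orderOf_dvd_of_pow_eq_one hy) (mul_inv_eq_iff_eq_mul.1 e).symm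
  rw [ht] at h1
  exact h.hp2 ((Nat.prime_dvd_prime_iff_eq Nat.prime_two h.hp).1 h1).symm

/-- An element of order `p` inverted by an involution has an abelian centraliser, which is a Sylow subgroup. -/
theorem Hyp.abelian_of_real (h : Hyp G p q f E O) [Fact p.Prime] {t x : G} (ht : orderOf t = 2)
    (hx1 : x ≠ 1) (hx : x ^ p = 1) (hinv : t * x * t⁻¹ = x⁻¹) (P : Sylow p G) :
    ∀ a ∈ (P : Subgroup G), ∀ b ∈ (P : Subgroup G), a * b = b * a := by
  set A := centralizer ({x} : Set G) with hA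
  have htt : t * t = 1 := by rw [← pow_two, ← ht, pow_orderOf_eq_one]
  have hnorm : ∀ y : G, t * y * t⁻¹ = y⁻¹ → ∀ a ∈ centralizer ({y} : Set G),
      t * a * t⁻¹ ∈ centralizer ({y} : Set G) := by
    intro y hy a ha
    rw [mem_centralizer_singleton_iff] at ha ⊢
    have h2 : t * a * t⁻¹ * y⁻¹ = y⁻¹ * (t * a * t⁻¹) := by rw [← hy, conj_mul, conj_mul, ha]
    have h3 : Commute (t * a * t⁻¹) y⁻¹ := h2
    exact (inv_inv y ▸ h3.inv_right).eq
  have hpA : ∀ y : G, y ≠ 1 → y ^ p = 1 → ∀ a ∈ centralizer ({y} : Set G), a ^ p = 1 := by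
    intro y hy1 hy a ha
    exact orderOf_dvd_iff_pow_eq_one.1
      (h.comm_dvd hy1 (.inl rfl) (orderOf_dvd_of_pow_eq_one hy) (mem_centralizer_singleton_iff.1 ha).symm)
  obtain ⟨hi, hcomm⟩ := inverts htt (hnorm x hinv) fun a ha e => h.fpf ht (hpA x hx1 hx a ha) e
  -- every non-identity element of `A` has centraliser `A`
  have hcen : ∀ y ∈ A, y ≠ 1 → centralizer ({y} : Set G) ≤ A := by
    intro y hy hy1 b hb
    have hyp := hpA x hx1 hx y hy
    obtain ⟨-, hc⟩ := inverts htt (hnorm y (hi y hy)) fun a ha e => h.fpf ht (hpA y hy1 hyp a ha) e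
    rw [mem_centralizer_singleton_iff]
    exact hc b hb x (mem_centralizer_singleton_iff.2 (mem_centralizer_singleton_iff.1 hy).symm)
  obtain ⟨R, hR⟩ := (h.isPGroup_cent hx1 hx).exists_le_sylow
  haveI : Nontrivial (R : Subgroup G) := Finite.one_lt_card_iff_nontrivial.1 (by
    rw [h.card_sylow R]; rw [h.hq]; exact Nat.one_lt_pow (by have := h.hf; omega) h.hp.one_lt)
  haveI := R.2.center_nontrivial
  obtain ⟨⟨z, hz⟩, hz1⟩ := exists_ne (1 : center (R : Subgroup G))
  have hzx : (z : G) ∈ A := mem_centralizer_singleton_iff.2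
    (congrArg Subtype.val (mem_center_iff.1 hz ⟨x, hR (mem_centralizer_singleton_iff.2 rfl)⟩)).symm
  have hRA : (R : Subgroup G) ≤ A := fun r hr => hcen z hzx
    (fun e => hz1 (Subtype.ext (Subtype.ext e)))
    (mem_centralizer_singleton_iff.2 (congrArg Subtype.val (mem_center_iff.1 hz ⟨r, hr⟩)))
  obtain ⟨g, hg⟩ := MulAction.exists_smul_eq G P R
  intro a ha b hb
  have hmem : ∀ c ∈ (P : Subgroup G), g * c * g⁻¹ ∈ A := fun c hc => hRA (by
    rw [← hg]
    exact mem_pointwise_smul_iff_inv_smul_mem.2 (by simpa [MulAut.smul_def, mul_assoc] using hc))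
  have h2 := hcomm _ (hmem a ha) _ (hmem b hb)
  rw [conj_mul, conj_mul, mul_left_inj, mul_right_inj] at h2
  exact h2

theorem exists_normalizer_gt {p : ℕ} [Fact p.Prime] (R : Sylow p G) (D : Subgroup G) (hle : D ≤ R)
    (hne : D ≠ R) :
    ∃ y, y ∈ (R : Subgroup G) ∧ y ∉ D ∧ y ∈ normalizer (D : Set G) := by
  haveI : Group.IsNilpotent (R : Subgroup G) := R.2.isNilpotent
  have hlt : D.subgroupOf (R : Subgroup G) < ⊤ :=
    lt_top_iff_ne_top.2 fun e => hne (le_antisymm hle fun y hy =>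
      (e ▸ mem_top (⟨y, hy⟩ : (R : Subgroup G)) : (⟨y, hy⟩ : (R : Subgroup G)) ∈ D.subgroupOf (R : Subgroup G)))
  obtain ⟨y, hy, hyD⟩ := SetLike.exists_of_lt (Group.normalizerCondition_of_isNilpotent _ hlt)
  refine ⟨y, y.2, fun e => hyD e, mem_normalizer_of_conj_mem fun v hv => ?_⟩
  exact ((mem_normalizer_iff.1 hy ⟨v, hle hv⟩).1 hv)

/-- Distinct Sylow `p`-subgroups intersect trivially. -/
theorem Hyp.sylow_inf (h : Hyp G p q f E O) [Fact p.Prime] {P Q : Sylow p G} (hPQ : P ≠ Q) :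
    (P : Subgroup G) ⊓ Q = ⊥ := by
  classical
  by_cases hA : ∃ t x : G, orderOf t = 2 ∧ x ≠ 1 ∧ x ^ p = 1 ∧ t * x * t⁻¹ = x⁻¹
  · obtain ⟨t, x, ht, hx1, hx, hinv⟩ := hA
    rw [eq_bot_iff_forall]
    rintro y ⟨hyP, hyQ⟩
    by_contra hy1
    have hle : ∀ R : Sylow p G, y ∈ (R : Subgroup G) → (R : Subgroup G) = centralizer ({y} : Set G) := by
      intro R hR
      exact (R.is_maximal' (h.isPGroup_cent hy1 (h.mem_sylow_pow hyP)) fun r hr =>
        mem_centralizer_singleton_iff.2 (h.abelian_of_real ht hx1 hx hinv R r hr y hR)).symm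
    exact hPQ (Sylow.ext ((hle P hyP).trans (hle Q hyQ).symm))
  · push Not at hA
    by_contra hne
    haveI : Finite (Sylow p G) := inferInstance
    let S := {z : Sylow p G × Sylow p G // z.1 ≠ z.2}
    haveI : Nonempty S := ⟨⟨(P, Q), hPQ⟩⟩
    obtain ⟨⟨⟨P₀, Q₀⟩, hne₀⟩, hmax⟩ := Finite.exists_max
      fun z : S => Nat.card ((z.1.1 : Subgroup G) ⊓ z.1.2 : Subgroup G)
    set D := (P₀ : Subgroup G) ⊓ Q₀ with hD
    have hD1 : D ≠ ⊥ := fun e => hne (by
      have h1 := hmax ⟨(P, Q), hPQ⟩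
      simp only [e, card_bot] at h1
      exact eq_bot_of_card_le _ h1)
    -- `N(D)` has odd order
    have hodd : Odd (Nat.card (normalizer (D : Set G))) := by
      rw [← Nat.not_even_iff_odd, even_iff_two_dvd]
      intro h2
      haveI : Fact (Nat.Prime 2) := ⟨Nat.prime_two⟩
      obtain ⟨t, ht⟩ := exists_prime_orderOf_dvd_card' _ h2
      obtain ⟨x, hxD, hx1⟩ := D.bot_or_exists_ne_one.resolve_left hD1
      have hto : orderOf (t : G) = 2 := by rw [Subgroup.orderOf_coe]; exact ht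
      obtain ⟨hi, -⟩ := inverts (A := D) (t := (t : G)) (by rw [← pow_two, ← hto, pow_orderOf_eq_one])
        (fun a ha => (mem_normalizer_iff.1 t.2 a).1 ha)
        fun a ha e => h.fpf hto (h.mem_sylow_pow (show a ∈ (P₀ : Subgroup G) from ha.1)) e
      exact hA t x hto hx1 (h.mem_sylow_pow (show x ∈ (P₀ : Subgroup G) from hxD.1)) (hi x hxD)
    -- the elements of order `p` of `N(D)`
    let U : Subgroup G :=
    { carrier := {x | x ∈ normalizer (D : Set G) ∧ x ^ p = 1}
      one_mem' := ⟨one_mem _, one_pow _⟩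
      mul_mem' := fun ha hb => ⟨mul_mem ha.1 hb.1, h.closed hodd ha.1 hb.1 ha.2 hb.2⟩
      inv_mem' := fun ha => ⟨inv_mem ha.1, by rw [inv_pow, ha.2, inv_one]⟩ }
    have hU : IsPGroup p U := fun x => ⟨1, Subtype.ext (by rw [pow_one]; exact x.2.2)⟩
    obtain ⟨R, hR⟩ := hU.exists_le_sylow
    have key : ∀ T : Sylow p G, D ≤ (T : Subgroup G) → D ≠ (T : Subgroup G) → R = T := by
      intro T hT hT'
      obtain ⟨y, hyT, hyD, hyN⟩ := exists_normalizer_gt T D hT hT'
      by_contra hRT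
      have h1 := hmax ⟨(R, T), hRT⟩
      change Nat.card ((R : Subgroup G) ⊓ T : Subgroup G) ≤ Nat.card D at h1
      have hlt : D < (R : Subgroup G) ⊓ T := by
        refine lt_of_le_of_ne (le_inf (fun d hd => hR ⟨le_normalizer hd,
          h.mem_sylow_pow (show d ∈ (P₀ : Subgroup G) from hd.1)⟩) hT) fun e => hyD ?_
        rw [e]
        exact ⟨hR ⟨hyN, h.mem_sylow_pow hyT⟩, hyT⟩
      exact absurd h1 (not_le.2 (by
        refine lt_of_le_of_ne (card_le_of_le hlt.le) fun e => hlt.ne (eq_of_le_of_card_ge hlt.le e.ge)))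
    have hsub : ∀ T T' : Sylow p G, (T : Subgroup G) ≤ T' → T = T' := fun T T' hle =>
      Sylow.ext (eq_of_le_of_card_ge hle (by rw [h.card_sylow, h.card_sylow]))
    have hP0 : D ≠ (P₀ : Subgroup G) := fun e => hne₀ (hsub P₀ Q₀ (e ▸ inf_le_right))
    have hQ0 : D ≠ (Q₀ : Subgroup G) := fun e => hne₀ (hsub Q₀ P₀ (e ▸ inf_le_left)).symm
    exact hne₀ ((key P₀ inf_le_left hP0).symm.trans (key Q₀ inf_le_right hQ0))

/-- The main result: `C(x) = P` and `|G : N(P)| = q + 1`. -/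
theorem Hyp.sylow_data (h : Hyp G p q f E O) [Fact p.Prime] (P : Sylow p G) :
    (∀ x ∈ (P : Subgroup G), x ≠ 1 → centralizer ({x} : Set G) = (P : Subgroup G)) ∧
      (normalizer ((P : Subgroup G) : Set G)).index = q + 1 ∧
      2 * Nat.card (normalizer ((P : Subgroup G) : Set G)) = q * (q - 1) := by
  classical
  have hq1 : 1 < q := h.hq ▸ Nat.one_lt_pow (by have := h.hf; omega) h.hp.one_lt
  have hcP := h.card_sylow P
  set N := normalizer ((P : Subgroup G) : Set G)
  -- the centre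
  set Z := (center (P : Subgroup G)).map (P : Subgroup G).subtype with hZ
  have hZP : Z ≤ P := map_subtype_le _
  haveI : Nontrivial (P : Subgroup G) := Finite.one_lt_card_iff_nontrivial.1 (by rw [hcP]; exact hq1)
  haveI := P.2.center_nontrivial
  have hZ1 : 1 < Nat.card Z := by
    rw [hZ, card_subtype]; exact Finite.one_lt_card
  have hcz : ∀ z ∈ Z, z ≠ 1 → centralizer ({z} : Set G) = (P : Subgroup G) := by
    rintro _ ⟨z, hz, rfl⟩ hz1
    exact P.is_maximal' (h.isPGroup_cent hz1 (h.mem_sylow_pow z.2)) fun r hr =>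
      mem_centralizer_singleton_iff.2 (congrArg Subtype.val (mem_center_iff.1 hz ⟨r, hr⟩))
  obtain ⟨m, hm⟩ : q ∣ Nat.card N := hcP ▸ card_dvd_of_le le_normalizer
  have hidx : N.index * m = 2 * (E * O) := by
    have h1 := N.index_mul_card
    rw [hm, h.card] at h1
    apply Nat.eq_of_mul_eq_mul_right (show 0 < q by omega)
    calc N.index * m * q = N.index * (q * m) := by ring
      _ = 2 * E * q * O := h1
      _ = 2 * (E * O) * q := by ring
  have hnp : Nat.card (Sylow p G) = N.index := Sylow.card_eq_index_normalizer P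
  -- congruence
  have hmod : q ∣ N.index - 1 := by
    rw [← hnp]
    let Y := {R : Sylow p G // R ≠ P}
    have hY : Nat.card Y = Nat.card (Sylow p G) - 1 := by
      haveI := Fintype.ofFinite (Sylow p G)
      rw [Nat.card_eq_fintype_card, Fintype.card_subtype_compl, Fintype.card_subtype_eq,
        Nat.card_eq_fintype_card]
    have hfix : ∀ v : (P : Subgroup G), (v : G) • P = P := fun v => Sylow.smul_eq_iff_mem_normalizer.2 (le_normalizer v.2)
    letI : MulAction (P : Subgroup G) Y :=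
    { smul := fun v R => ⟨(v : G) • R.1, fun e => R.2 (smul_left_cancel (v : G) (e.trans (hfix v).symm))⟩
      one_smul := fun R => Subtype.ext (one_smul G R.1)
      mul_smul := fun v v' R => Subtype.ext (mul_smul (v : G) (v' : G) R.1) }
    rw [← hY]
    refine dvd_card_of_orbits (M := (P : Subgroup G)) fun R => ?_
    suffices MulAction.stabilizer (P : Subgroup G) R = ⊥ by rw [this, index_bot, hcP]
    rw [eq_bot_iff_forall]
    intro v hv
    have hvR : (v : G) ∈ normalizer ((R.1 : Subgroup G) : Set G) :=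
      Sylow.smul_eq_iff_mem_normalizer.1 (congrArg Subtype.val (MulAction.mem_stabilizer_iff.1 hv))
    have hsup : IsPGroup p (zpowers (v : G) ⊔ (R.1 : Subgroup G) : Subgroup G) :=
      (P.2.to_le (zpowers_le.2 v.2)).to_sup_of_normal_right' R.1.2 (zpowers_le.2 hvR)
    have hvR' : (v : G) ∈ (R.1 : Subgroup G) :=
      R.1.is_maximal' hsup le_sup_right ▸ mem_sup_left (mem_zpowers _)
    have := h.sylow_inf R.2
    apply Subtype.ext
    exact mem_bot.1 (this ▸ (⟨hvR', v.2⟩ : (v : G) ∈ (R.1 : Subgroup G) ⊓ P))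
  -- `m ∣ |Z| - 1`
  have hmcop : m.Coprime q :=
    ((h.cop_q_two_E.mul_right h.cop_q_O).coprime_dvd_right
      (show m ∣ 2 * E * O by rw [mul_assoc, ← hidx]; exact dvd_mul_left _ _)).symm
  have hmz : m ∣ Nat.card Z - 1 := by
    refine dvd_card_sub_one Z ((dvd_mul_left m q).trans (hm ▸ card_dvd_of_le ?_)) fun x hx hx1 => by
      rw [hcz x hx hx1, hcP]; exact hmcop.symm
    intro g hg
    refine mem_normalizer_of_conj_mem ?_
    rintro _ ⟨z, hz, rfl⟩
    refine ⟨⟨g * z * g⁻¹, (mem_normalizer_iff.1 hg z).1 z.2⟩, mem_center_iff.2 fun r => ?_, rfl⟩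
    apply Subtype.ext
    show (r : G) * (g * z * g⁻¹) = g * z * g⁻¹ * r
    have hr : g⁻¹ * (r : G) * g ∈ (P : Subgroup G) := (mem_normalizer_iff''.1 hg _).1 r.2
    have h1 : g⁻¹ * (r : G) * g * z = z * (g⁻¹ * (r : G) * g) :=
      congrArg Subtype.val (mem_center_iff.1 hz ⟨_, hr⟩)
    calc (r : G) * (g * z * g⁻¹) = g * (g⁻¹ * (r : G) * g * z) * g⁻¹ := by group
      _ = g * (z * (g⁻¹ * (r : G) * g)) * g⁻¹ := by rw [h1]
      _ = g * z * g⁻¹ * r := by group
  -- `q ∣ 2 m + 1`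
  have h2m : q ∣ 2 * m + 1 := by
    have hpos : 1 ≤ N.index := Nat.one_le_iff_ne_zero.2 index_ne_zero_of_finite
    have h1 : (q : ℤ) ∣ (N.index : ℤ) - 1 := by
      have := Int.natCast_dvd_natCast.2 hmod
      rwa [Nat.cast_sub hpos, Nat.cast_one] at this
    have h2 : 4 * ((E : ℤ) * O) + 1 = (q : ℤ) * q := by
      rcases h.hEO with ⟨a, b⟩ | ⟨a, b⟩
      · rw [← a, b]; push_cast; ring
      · have : q = 2 * O + 1 := by omega
        rw [this, ← b]; push_cast; ring
    have h4 : (N.index : ℤ) * m = 2 * ((E : ℤ) * O) := by exact_mod_cast hidx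
    have h3 : (q : ℤ) ∣ ((2 * m + 1 : ℕ) : ℤ) := by
      have := dvd_sub (dvd_mul_right (q : ℤ) q) (h1.mul_right (2 * (m : ℤ)))
      rw [sub_mul, show (N.index : ℤ) * (2 * m) = 2 * ((N.index : ℤ) * m) by ring, h4, ← h2, one_mul,
        show 4 * ((E : ℤ) * O) + 1 - (2 * (2 * ((E : ℤ) * O)) - 2 * (m : ℤ)) = 2 * m + 1 by ring] at this
      exact_mod_cast this
    exact Int.natCast_dvd_natCast.1 h3
  have hmle : m ≤ Nat.card Z - 1 := Nat.le_of_dvd (by omega) hmz
  have hqm : q ≤ 2 * m + 1 := Nat.le_of_dvd (by omega) h2m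
  obtain ⟨k, hk, hZk⟩ := (Nat.dvd_prime_pow h.hp).1 (h.hq ▸ hcP ▸ card_dvd_of_le hZP)
  have hZq : Nat.card Z = q := by
    rcases eq_or_lt_of_le hk with e | e
    · rw [hZk, e, h.hq]
    · exfalso
      have h1 : p * p ^ k ≤ p ^ f := by rw [← pow_succ']; exact Nat.pow_le_pow_right h.hp.pos e
      have h3 : 3 ≤ p := by have := h.hp.two_le; have := h.hp2; omega
      have h2 : 3 * p ^ k ≤ p * p ^ k := Nat.mul_le_mul_right _ h3
      rw [← h.hq, ← hZk] at h1
      rw [← hZk] at h2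
      omega
  have hZeq : Z = P := eq_of_le_of_card_ge hZP (by rw [hcP, hZq])
  refine ⟨fun x hx hx1 => hcz x (hZeq ▸ hx) hx1, ?_⟩
  have hm2 : 2 * m + 1 = q := by
    obtain ⟨k, hk⟩ := h2m
    rcases Nat.lt_or_ge k 2 with hk' | hk'
    · interval_cases k <;> omega
    · have : q * 2 ≤ q * k := Nat.mul_le_mul_left _ hk'
      omega
  have hidx' : N.index = q + 1 := by
    have hm0 : 0 < m := by omega
    apply Nat.eq_of_mul_eq_mul_right hm0
    rw [hidx]
    rcases h.hEO with ⟨a, b⟩ | ⟨a, b⟩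
    · have : m = E := by omega
      subst this; rw [← a, b]; ring
    · have : m = O := by omega
      subst this; rw [← a]; ring
  refine ⟨hidx', ?_⟩
  rw [hm, show q - 1 = 2 * m by omega]; ring

end CfsgLib.PSLTwoRecog
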