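import Cfsg.Agent.Char.FrobeniusKernel
import Mathlib

/-!
Abelian Hall subgroups containing the centralisers of their non-identity elements in their normalisers.
-/

set_option autoImplicit false
set_option linter.style.haveILetI false
set_option linter.unusedSectionVars false

namespace CfsgLib.PSLTwoRecog

open Subgroup

variable {G : Type*} [Group G] [Finite G]

theorem mem_normalizer_of_conj_mem {W : Subgroup G} {g : G} (h : ∀ v ∈ W, g * v * g⁻¹ ∈ W) :
    g ∈ normalizer (W : Set G) := by
  refine mem_normalizer_iff.2 fun y => ⟨h y, fun hy => ?_⟩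
  let φ : W → W := fun v => ⟨g * v * g⁻¹, h v v.2⟩
  have hinj : Function.Injective φ := fun a b e => by
    have := congrArg Subtype.val e
    simp only [φ, mul_left_inj, mul_right_inj] at this
    exact Subtype.ext this
  obtain ⟨v, hv⟩ := Finite.surjective_of_injective hinj ⟨_, hy⟩
  have := congrArg Subtype.val hv
  simp only [φ, mul_left_inj, mul_right_inj] at this
  exact this ▸ v.2

/-- A number dividing all orbit lengths divides the number of points. -/
theorem dvd_card_of_orbits {M X : Type*} [Group M] [MulAction M X] [Finite X] {f : ℕ}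
    (h : ∀ x : X, f ∣ (MulAction.stabilizer M x).index) : f ∣ Nat.card X := by
  classical
  haveI := Fintype.ofFinite (MulAction.orbitRel.Quotient M X)
  rw [Nat.card_congr (MulAction.selfEquivSigmaOrbits M X), Nat.card_sigma]
  refine Finset.dvd_sum fun ω _ => ?_
  have := h ω.out
  rwa [MulAction.index_stabilizer, ← Nat.card_coe_set_eq] at this

theorem dvd_card_sub_one (W : Subgroup G) {f : ℕ} (hfN : f ∣ Nat.card (normalizer (W : Set G)))
    (hcop : ∀ x ∈ W, x ≠ 1 → (Nat.card (centralizer ({x} : Set G))).Coprime f) :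
    f ∣ Nat.card W - 1 := by
  classical
  let X := {x : W // x ≠ 1}
  letI : MulAction (normalizer (W : Set G)) X :=
  { smul := fun m x => ⟨⟨(m : G) * x.1 * (m : G)⁻¹, (mem_normalizer_iff.1 m.2 _).1 x.1.2⟩, fun e => x.2
      (Subtype.ext (conj_eq_one_iff.1 (congrArg Subtype.val e)))⟩
    one_smul := fun x => by
      apply Subtype.ext; apply Subtype.ext
      show ((1 : normalizer (W : Set G)) : G) * x.1 * ((1 : normalizer (W : Set G)) : G)⁻¹ = _
      simp
    mul_smul := fun m m' x => by
      apply Subtype.ext; apply Subtype.ext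
      show ((m * m' : normalizer (W : Set G)) : G) * x.1 * ((m * m' : normalizer (W : Set G)) : G)⁻¹ =
        (m : G) * ((m' : G) * x.1 * (m' : G)⁻¹) * (m : G)⁻¹
      push_cast; group }
  have hX : Nat.card X = Nat.card W - 1 := by
    haveI := Fintype.ofFinite W
    rw [Nat.card_eq_fintype_card, Nat.card_eq_fintype_card, Fintype.card_subtype_compl,
      Fintype.card_subtype_eq]
  rw [← hX]
  refine dvd_card_of_orbits (M := normalizer (W : Set G)) fun x => ?_
  have hs : Nat.card (MulAction.stabilizer (normalizer (W : Set G)) x) ∣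
      Nat.card (centralizer ({(x.1 : G)} : Set G)) := by
    let i : MulAction.stabilizer (normalizer (W : Set G)) x →* centralizer ({(x.1 : G)} : Set G) :=
    { toFun := fun m => ⟨((m : normalizer (W : Set G)) : G), mem_centralizer_singleton_iff.2 (by
        have := congrArg (fun z : X => ((z.1 : W) : G)) (MulAction.mem_stabilizer_iff.1 m.2)
        exact mul_inv_eq_iff_eq_mul.1 this)⟩
      map_one' := rfl
      map_mul' := fun _ _ => rfl }
    exact card_dvd_of_injective i fun a b e =>
      Subtype.ext (Subtype.ext (congrArg (fun u : centralizer ({(x.1 : G)} : Set G) => (u : G)) e))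
  have hc : (Nat.card (MulAction.stabilizer (normalizer (W : Set G)) x)).Coprime f :=
    Nat.Coprime.coprime_dvd_left hs (hcop _ x.1.2 (fun e => x.2 (Subtype.ext e)))
  rw [← (MulAction.stabilizer (normalizer (W : Set G)) x).index_mul_card] at hfN
  exact hc.symm.dvd_of_dvd_mul_right hfN

/-- An abelian Hall subgroup whose non-identity elements have centralisers inside its normaliser. -/
structure Part (W : Subgroup G) : Prop where
  comm : IsMulCommutative W
  hall : (Nat.card W).Coprime W.index
  cent : ∀ x ∈ W, x ≠ 1 → centralizer ({x} : Set G) ≤ normalizer (W : Set G)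

variable {W : Subgroup G}

theorem Part.mem_of_pow (h : Part W) {y : G} (hy : y ∈ normalizer (W : Set G))
    (hn : y ^ Nat.card W = 1) : y ∈ W := by
  have hd : (W.subgroupOf (normalizer (W : Set G))).index ∣ W.index :=
    relIndex_dvd_index_of_le le_normalizer
  have h1 : (⟨y, hy⟩ : normalizer (W : Set G)) ^ (W.subgroupOf (normalizer (W : Set G))).index ∈
      W.subgroupOf (normalizer (W : Set G)) := pow_index_mem _ _
  rw [mem_subgroupOf] at h1
  push_cast at h1
  set i := (W.subgroupOf (normalizer (W : Set G))).index with hi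
  have hcop : (Nat.card W).Coprime i := Nat.Coprime.coprime_dvd_right hd h.hall
  have hb : (1 : ℤ) = (Nat.card W : ℤ) * Nat.gcdA (Nat.card W) i + (i : ℤ) * Nat.gcdB (Nat.card W) i := by
    have := Nat.gcd_eq_gcd_ab (Nat.card W) i
    rw [hcop] at this
    exact_mod_cast this
  have : y ^ (1 : ℤ) ∈ W := by
    rw [hb, zpow_add, zpow_mul, zpow_mul, zpow_natCast, zpow_natCast, hn, one_zpow, one_mul]
    exact W.zpow_mem h1 _
  simpa using this

theorem Part.pow_card (_h : Part W) {v : G} (hv : v ∈ W) : v ^ Nat.card W = 1 :=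
  orderOf_dvd_iff_pow_eq_one.1 (Subgroup.orderOf_dvd_natCard W hv)

theorem Part.ti (h : Part W) {x g : G} (hx : x ∈ W) (hx1 : x ≠ 1) (hg : g⁻¹ * x * g ∈ W) :
    g ∈ normalizer (W : Set G) := by
  refine mem_normalizer_of_conj_mem fun v hv => h.mem_of_pow (h.cent x hx hx1 ?_) ?_
  · haveI := h.comm
    have := setLike_mul_comm (S := Subgroup G) hv hg
    rw [mem_centralizer_singleton_iff]
    calc g * v * g⁻¹ * x = g * (v * (g⁻¹ * x * g)) * g⁻¹ := by group
      _ = g * ((g⁻¹ * x * g) * v) * g⁻¹ := by rw [this]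
      _ = x * (g * v * g⁻¹) := by group
  · rw [conj_pow, h.pow_card hv]; group

theorem Part.index_modEq (h : Part W) :
    Nat.card W ∣ (normalizer (W : Set G)).index - 1 := by
  classical
  set N := normalizer (W : Set G)
  haveI := Fintype.ofFinite (G ⧸ N)
  let o : G ⧸ N := ((1 : G) : G ⧸ N)
  have hfix : ∀ v : W, (v : G) • o = o := fun v => by
    rw [← MulAction.mem_stabilizer_iff, MulAction.stabilizer_quotient N]
    exact le_normalizer v.2
  let Y := {y : G ⧸ N // y ≠ o}
  letI : MulAction W Y :=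
  { smul := fun v y => ⟨(v : G) • y.1, fun e => y.2 (smul_left_cancel (v : G) (e.trans (hfix v).symm))⟩
    one_smul := fun y => Subtype.ext (one_smul G y.1)
    mul_smul := fun v v' y => Subtype.ext (mul_smul (v : G) (v' : G) y.1) }
  have hY : Nat.card Y = N.index - 1 := by
    rw [Nat.card_eq_fintype_card, Fintype.card_subtype_compl, Fintype.card_subtype_eq,
      ← Nat.card_eq_fintype_card, index_eq_card]
  rw [← hY]
  refine dvd_card_of_orbits (M := W) fun y => ?_
  suffices MulAction.stabilizer W y = ⊥ by rw [this, index_bot]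
  rw [eq_bot_iff_forall]
  intro v hv
  obtain ⟨y, hy⟩ := y
  induction y using QuotientGroup.induction_on with
  | H g =>
    have hv' : ((v * g : G) : G ⧸ N) = (g : G ⧸ N) := congrArg Subtype.val (MulAction.mem_stabilizer_iff.1 hv)
    by_contra hv1
    apply hy
    rw [QuotientGroup.eq] at hv'
    have h1 : g⁻¹ * (v : G) * g ∈ N := by
      have := N.inv_mem hv'
      rwa [show (((v : G) * g)⁻¹ * g)⁻¹ = g⁻¹ * (v : G) * g by group] at this
    have h2 : g⁻¹ * (v : G) * g ∈ W := h.mem_of_pow h1 (by
      have := conj_pow (i := Nat.card W) (a := g⁻¹) (b := (v : G))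
      rw [inv_inv] at this
      rw [this, h.pow_card v.2]; group)
    have := h.ti v.2 (fun e => hv1 (Subtype.ext e)) h2
    show (g : G ⧸ N) = ((1 : G) : G ⧸ N)
    rw [QuotientGroup.eq]
    simpa using this

theorem Part.elem_into (h : Part W) {x : G} (hx : x ^ Nat.card W = 1) :
    ∃ g : G, g⁻¹ * x * g ∈ W := by
  classical
  by_cases hx1 : x = 1
  · exact ⟨1, by simp [hx1]⟩
  set r := (orderOf x).minFac
  have hr : r.Prime := Nat.minFac_prime (by rwa [Ne, orderOf_eq_one_iff])
  haveI : Fact r.Prime := ⟨hr⟩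
  have hrx : r ∣ orderOf x := Nat.minFac_dvd _
  have hrn : r ∣ Nat.card W := hrx.trans (orderOf_dvd_of_pow_eq_one hx)
  set z := x ^ (orderOf x / r) with hz
  have hzo : orderOf z = r := orderOf_pow_orderOf_div (orderOf_pos x).ne' hrx
  obtain ⟨R⟩ : Nonempty (Sylow r W) := inferInstance
  have hcR : Nat.card ((R : Subgroup W).map W.subtype) = r ^ (Nat.card G).factorization r := by
    rw [card_subtype, Sylow.card_eq_multiplicity, ← W.card_mul_index,
      Nat.factorization_mul_apply_of_coprime h.hall,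
      Nat.factorization_eq_zero_of_not_dvd (n := W.index) (fun hd => hr.not_dvd_one (h.hall ▸ Nat.dvd_gcd hrn hd)),
      add_zero]
  let R' : Sylow r G := Sylow.ofCard _ hcR
  obtain ⟨P, hP⟩ := IsPGroup.exists_le_sylow (P := zpowers z)
    (IsPGroup.of_card (n := 1) (by rw [Nat.card_zpowers, hzo, pow_one]))
  obtain ⟨g, hg⟩ := MulAction.exists_smul_eq G R' P
  have hzP : z ∈ (P : Subgroup G) := hP (mem_zpowers z)
  rw [← hg, Sylow.smul_def] at hzP
  have hzW : g⁻¹ * z * g ∈ W := by
    have := mem_pointwise_smul_iff_inv_smul_mem.1 hzP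
    have h2 : g⁻¹ * z * g ∈ (R : Subgroup W).map W.subtype := by
      simpa [R', MulAut.smul_def] using this
    exact map_subtype_le _ h2
  refine ⟨g, h.mem_of_pow (h.cent _ hzW ?_ ?_) ?_⟩
  · intro e
    have : z = 1 := by
      calc z = g * (g⁻¹ * z * g) * g⁻¹ := by group
        _ = 1 := by rw [e]; group
    rw [this, orderOf_one] at hzo
    exact hr.one_lt.ne hzo
  · rw [mem_centralizer_singleton_iff]
    have hc : x * z = z * x := ((Commute.refl x).pow_right _).eq
    calc g⁻¹ * x * g * (g⁻¹ * z * g) = g⁻¹ * (x * z) * g := by group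
      _ = g⁻¹ * (z * x) * g := by rw [hc]
      _ = _ := by group
  · have := conj_pow (i := Nat.card W) (a := g⁻¹) (b := x)
    rw [inv_inv] at this
    rw [this, hx]; group

/-- In a subgroup of odd order, a product of elements of order prime to `|W|` is not conjugate to a
non-identity element of `W`. -/
theorem Part.odd_closed (h : Part W)
    (hodd : ∀ k ∈ normalizer (W : Set G), Odd (orderOf k) → k ∈ W) (H : Subgroup G)
    (hH : Odd (Nat.card H)) {p : ℕ} (hp : p.Coprime (Nat.card W)) {x y : G} (hx : x ∈ H) (hy : y ∈ H)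
    (hxp : x ^ p = 1) (hyp : y ^ p = 1) {g : G} (hg : g⁻¹ * (x * y) * g ∈ W) : x * y = 1 := by
  let WH : Subgroup H := W.comap ((MulAut.conj g⁻¹).toMonoidHom.comp H.subtype)
  have hmem : ∀ u : H, u ∈ WH ↔ g⁻¹ * (u : G) * g ∈ W := fun u => by
    rw [mem_comap]; simp
  have hTI : ∀ k : H, k ∉ WH → ∀ u ∈ WH, k * u * k⁻¹ ∈ WH → u = 1 := by
    intro k hk u hu hku
    by_contra hu1
    rw [hmem] at hk hu hku
    push_cast at hku
    apply hk
    refine hodd _ ?_ ?_
    · have := h.ti (g := (g⁻¹ * (k : G) * g)⁻¹) hu (fun e => hu1 (Subtype.ext (by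
        calc (u : G) = g * (g⁻¹ * (u : G) * g) * g⁻¹ := by group
          _ = 1 := by rw [e]; group))) (by
        rw [show ((g⁻¹ * (k : G) * g)⁻¹)⁻¹ * (g⁻¹ * (u : G) * g) * (g⁻¹ * (k : G) * g)⁻¹ =
          g⁻¹ * ((k : G) * (u : G) * (k : G)⁻¹) * g by group]
        exact hku)
      exact inv_mem_iff.1 this
    · have h2 := (MulAut.conj g⁻¹).orderOf_eq (k : G)
      rw [MulAut.conj_apply, inv_inv] at h2
      rw [h2, orderOf_coe]
      exact hH.of_dvd_nat (orderOf_dvd_natCard k)
  obtain ⟨K, -, hinf, -, -, hK⟩ := CfsgLib.Char.exists_frobenius_kernel WH hTI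
  have hin : ∀ u : H, (u : G) ^ p = 1 → u ∈ K := by
    intro u hu
    refine (hK u).2 (or_iff_not_imp_left.2 fun hu1 v hv => hu1 ?_)
    rw [hmem] at hv
    push_cast at hv
    set w := g⁻¹ * ((v : G)⁻¹ * (u : G) * (v : G)) * g with hw
    have h1 : w ^ p = 1 := by
      rw [hw, show g⁻¹ * ((v : G)⁻¹ * (u : G) * (v : G)) * g = (g⁻¹ * (v : G)⁻¹) * (u : G) * (g⁻¹ * (v : G)⁻¹)⁻¹ by group,
        conj_pow, hu]
      group
    have h2 : orderOf w ∣ 1 := by
      rw [← hp]
      exact Nat.dvd_gcd (orderOf_dvd_of_pow_eq_one h1) (orderOf_dvd_of_pow_eq_one (h.pow_card hv))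
    have h3 : w = 1 := orderOf_eq_one_iff.1 (Nat.dvd_one.1 h2)
    apply Subtype.ext
    calc (u : G) = (v : G) * g * w * g⁻¹ * (v : G)⁻¹ := by rw [hw]; group
      _ = 1 := by rw [h3]; group
  have h1 : (⟨x * y, H.mul_mem hx hy⟩ : H) ∈ K ⊓ WH :=
    ⟨K.mul_mem (hin ⟨x, hx⟩ hxp) (hin ⟨y, hy⟩ hyp), (hmem _).2 hg⟩
  rw [hinf, mem_bot] at h1
  exact congrArg Subtype.val h1

end CfsgLib.PSLTwoRecog
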